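import Cfsg.Agent.Lib.DoubleCoverDeg.Ten.Degree
import Mathlib.GroupTheory.SpecificGroups.Cyclic
import Mathlib.RingTheory.IntegralDomain

/-!
S1645, degree ten: no order satisfies the degree equation and the local conditions.
-/

set_option autoImplicit false
set_option linter.style.haveILetI false
set_option linter.unusedSectionVars false

namespace Cfsg.Agent.DoubleCoverDeg

open Subgroup

universe u

/-- The candidate degree. -/
def candDeg (c e s : ℕ) : ℤ := if s = 0 then (c : ℤ) - 7 + e else (c : ℤ) - 7 - e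

/-- The candidate cofactor. -/
def candCof (d e : ℕ) : ℕ := 2592 * (d * (d - 1)) / (e * e)

/-- The condition on a candidate. -/
def CandOK (c e s : ℕ) : Prop :=
  2 ≤ candDeg c e s → e * e ∣ 2592 * ((candDeg c e s).toNat * ((candDeg c e s).toNat - 1)) →
    Nat.gcd (candCof (candDeg c e s).toNat e) 6 = 1 → (candDeg c e s).toNat ∣ 144 * candCof (candDeg c e s).toNat e →
    (candDeg c e s).toNat - 1 ∣ 144 * candCof (candDeg c e s).toNat e →
    candCof (candDeg c e s).toNat e ∈ [2329, 2485, 2701, 2869]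

instance (c e s : ℕ) : Decidable (CandOK c e s) := by unfold CandOK; infer_instance

/-- The finite search. -/
theorem degree_search : ∀ i < 9, ∀ j < 7, ∀ k < 2, ∀ l < 2, ∀ c < 16, ∀ s < 2,
    CandOK c (2 ^ i * 3 ^ j * 5 ^ k * 7 ^ l) s := by
  decide +kernel

theorem consec_dvd : ∀ c : ℕ, c < 16 → ((c : ℤ) - 7) = 0 ∨ ((c : ℤ) - 7) = 1 ∨
    (((c : ℤ) - 7) * ((c : ℤ) - 7 - 1)).natAbs ∣ 2520 := by decide +kernel

theorem search_151 : ∀ t < 19, ∀ k ∈ [1, 19], ∀ r ∈ [2736 / ((151 * t + 1) * k)],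
    (151 * t + 1) * r * k = 2736 → r ∣ 150 → False := by decide +kernel

theorem search_137 : ∀ t < 18, ∀ k ∈ [1, 17], ∀ r ∈ [2448 / ((137 * t + 1) * k)],
    (137 * t + 1) * r * k = 2448 → r ∣ 136 → False := by decide +kernel

theorem search_73 : ∀ t < 73, ∀ k ∈ [1, 37], ∀ r ∈ [5328 / ((73 * t + 1) * k)],
    (73 * t + 1) * r * k = 5328 → r ∣ 72 → 9 ∣ r := by decide +kernel

theorem search_71 : ∀ t < 71, ∀ k ∈ [1, 5, 7, 35], ∀ r ∈ [5040 / ((71 * t + 1) * k)],
    (71 * t + 1) * r * k = 5040 → r ∣ 70 → (2 * 5 ∣ r ∨ 2 * 7 ∣ r) ∨ (k = 35 ∧ r = 2) := by decide +kernel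

theorem search_5 : ∀ a < 5, ∀ k ∈ [71, 497], 2 ^ a ≤ 4 →
    71568 % (2 ^ a * k) = 0 → (71568 / (2 ^ a * k)) % 5 = 1 → k = 497 ∧ 2 ^ a = 4 := by decide +kernel

namespace Loc

variable {H : Type u} [Group H] [Fintype H]

/-- The shape of the normaliser of a subgroup of prime order. -/
theorem local_prime (L : Loc H) {p : ℕ} (hp : p.Prime) (hp5 : 5 ≤ p) (hp2 : ¬ p * p ∣ Nat.card H) {x : H}
    (hx : orderOf x = p) :
    ∃ t r k, (p * t + 1) * r * (k * p) = Nat.card H ∧ r ∣ p - 1 ∧ ¬ 9 ∣ r ∧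
      (∀ q, q.Prime → 5 ≤ q → ¬ 2 * q ∣ r) ∧ Nat.Coprime (k * p) 6 ∧
      Nat.card (centralizer ({x} : Set H)) = k * p ∧
      Nat.card (normalizer ((zpowers x : Subgroup H) : Set H)) = r * (k * p) := by
  classical
  haveI : Fact p.Prime := ⟨hp⟩
  set P := zpowers x with hP
  have hPc : Nat.card P = p := by rw [hP, Nat.card_zpowers, hx]
  obtain ⟨S, hS⟩ := (IsPGroup.of_card (n := 1) (G := P) (p := p) (by rw [hPc, pow_one])).exists_le_sylow
  obtain ⟨n, hn⟩ := IsPGroup.iff_card.1 S.isPGroup'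
  have hn1 : n ≤ 1 := by
    by_contra h
    exact hp2 ((show p * p ∣ p ^ n by rw [← pow_two]; exact pow_dvd_pow p (by omega)).trans
      (hn ▸ card_subgroup_dvd_card (S : Subgroup H)))
  have hPS : P = (S : Subgroup H) := eq_of_le_of_card_ge hS (by
    rw [hn, hPc]
    exact le_trans (Nat.pow_le_pow_right hp.pos hn1) (le_of_eq (pow_one p)))
  have hmod := card_sylow_modEq_one p H
  rw [Sylow.card_eq_index_normalizer S] at hmod
  set M := normalizer ((P : Subgroup H) : Set H) with hM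
  replace hmod : M.index ≡ 1 [MOD p] := by rw [hM, hPS]; exact hmod
  set t := M.index / p with ht
  have hidx : M.index = p * t + 1 := by
    have h1 : M.index % p = 1 := (show M.index % p = 1 % p from hmod).trans (Nat.mod_eq_of_lt hp.one_lt)
    have h2 := Nat.div_add_mod M.index p
    rw [h1] at h2
    exact h2.symm
  let f := normalizerMonoidHom P
  haveI : IsCyclic P := isCyclic_of_prime_card hPc
  let e : MulAut P ≃* (ZMod (Nat.card P))ˣ := (IsCyclic.mulAutMulEquiv P)
  let g : M →* (ZMod p)ˣ :=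
    ((Units.mapEquiv (ZMod.ringEquivCongr hPc).toMulEquiv).toMonoidHom.comp e.toMonoidHom).comp f
  have hker : Nat.card g.ker = Nat.card (centralizer ({x} : Set H)) := by
    have h1 : g.ker = f.ker := by
      ext a
      simp only [g, MonoidHom.mem_ker, MonoidHom.comp_apply, MulEquiv.coe_toMonoidHom,
        MulEquiv.map_eq_one_iff]
    have hC : centralizer ((P : Subgroup H) : Set H) = centralizer ({x} : Set H) := by
      rw [hP, zpowers_eq_closure, centralizer_closure]
    rw [h1, normalizerMonoidHom_ker, Nat.card_congr (subgroupOfEquivOfLe ?_).toEquiv, hC]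
    exact centralizer_le_normalizer _
  set r := Nat.card g.range with hr
  have hrp : r ∣ p - 1 := by
    have h := card_subgroup_dvd_card g.range
    rwa [Nat.card_eq_fintype_card (α := (ZMod p)ˣ), ZMod.card_units] at h
  haveI : IsCyclic g.range := inferInstance
  have hsplit : Nat.card M = r * Nat.card (centralizer ({x} : Set H)) := by
    rw [← hker, ← g.ker.card_mul_index, index_ker, mul_comm]
  obtain ⟨k, hk⟩ : p ∣ Nat.card (centralizer ({x} : Set H)) := by
    have h := orderOf_dvd_natCard (centralizer ({x} : Set H)) (mem_centralizer_singleton_iff.2 rfl : x ∈ _)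
    rwa [hx] at h
  rw [mul_comm] at hk
  have h144 : ¬ p ∣ 144 := fun h => by
    have h' : p ∣ 2 ^ 4 * 3 ^ 2 := h
    rcases (Nat.Prime.dvd_mul hp).1 h' with h | h <;> have := Nat.le_of_dvd (by norm_num) (hp.dvd_of_dvd_pow h) <;>
      omega
  have no_comm : ∀ {y : H}, orderOf y = 2 ∨ orderOf y = 3 → ∀ {w : H}, orderOf w = p → ¬ Commute w y := by
    intro y hy w hw hc
    have h := orderOf_dvd_natCard (centralizer ({y} : Set H)) (mem_centralizer_singleton_iff.2 hc.eq)
    rw [hw] at h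
    rcases hy with hy | hy
    · exact h144 (L.cen_invol hy ▸ h)
    · exact h144 (h.trans (L.cen_three_dvd hy))
  have hcop : Nat.Coprime (k * p) 6 := by
    rw [← hk]
    have hq : ∀ q, q = 2 ∨ q = 3 → q.Prime → ¬ q ∣ Nat.card (centralizer ({x} : Set H)) := by
      intro q hq hqp hd
      haveI : Fact q.Prime := ⟨hqp⟩
      obtain ⟨y, hy⟩ := exists_prime_orderOf_dvd_card' q hd
      rw [← orderOf_coe] at hy
      refine no_comm (y := (y : H)) (by rcases hq with rfl | rfl <;> [left; right] <;> exact hy) hx ?_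
      exact (mem_centralizer_singleton_iff.1 y.2).symm
    exact Nat.Coprime.mul_right (m := 2) (n := 3)
      ((Nat.prime_two.coprime_iff_not_dvd.2 (hq 2 (Or.inl rfl) Nat.prime_two)).symm)
      ((Nat.prime_three.coprime_iff_not_dvd.2 (hq 3 (Or.inr rfl) Nat.prime_three)).symm)
  have hbig : ∀ a, a ∣ r → ∃ y : H, orderOf y = a := by
    intro a ha
    obtain ⟨w, hw⟩ := IsCyclic.exists_generator (α := g.range)
    obtain ⟨_, b, rfl⟩ := w
    have hwo : orderOf (g b) = r := by
      rw [hr, ← orderOf_eq_card_of_forall_mem_zpowers hw, ← orderOf_coe]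
    obtain ⟨c, hc⟩ := (ha.trans (hwo ▸ orderOf_map_dvd g b) : a ∣ orderOf b)
    have hb : 0 < orderOf b := orderOf_pos b
    rw [← orderOf_coe] at hc hb
    rw [hc] at hb
    refine ⟨(b : H) ^ c, ?_⟩
    rw [orderOf_pow_of_dvd (Nat.pos_of_mul_pos_left hb).ne' (Dvd.intro_left a hc.symm), hc,
      Nat.mul_div_cancel _ (Nat.pos_of_mul_pos_left hb)]
  refine ⟨t, r, k, ?_, hrp, ?_, ?_, hcop, hk, hk ▸ hsplit⟩
  · rw [← card_mul_index M, hidx, hsplit, hk]
    ring
  · intro h9
    obtain ⟨y, hy⟩ := hbig 9 h9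
    exact L.no_nine y hy
  · intro q hq hq5 h2q
    obtain ⟨y, hy⟩ := hbig _ h2q
    have hi : orderOf (y ^ q) = 2 := by
      rw [orderOf_pow, hy, Nat.gcd_mul_left_left, Nat.mul_div_cancel _ hq.pos]
    have hw : orderOf (y ^ 2) = q := by
      rw [orderOf_pow, hy, Nat.gcd_mul_right_left, Nat.mul_div_cancel_left _ two_pos]
    have h := orderOf_dvd_natCard (centralizer ({y ^ q} : Set H))
      (mem_centralizer_singleton_iff.2 ((Commute.refl y).pow_pow 2 q).eq)
    rw [hw, L.cen_invol hi] at h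
    have h' : q ∣ 2 ^ 4 * 3 ^ 2 := h
    rcases (Nat.Prime.dvd_mul hq).1 h' with h | h <;> have := Nat.le_of_dvd (by norm_num) (hq.dvd_of_dvd_pow h) <;>
      omega

theorem exists_order_prime (L : Loc H) {p : ℕ} (hp : p.Prime) (h : p ∣ Nat.card H) : ∃ x : H, orderOf x = p :=
  haveI := Fact.mk hp
  exists_prime_orderOf_dvd_card' p h

theorem count_data {p q t r k : ℕ} (hp : 0 < p) (hq : 0 < q) (h : (p * t + 1) * r * (k * p) = 144 * (p * q))
    (hcop : Nat.Coprime (k * p) 6) :
    k ∣ q ∧ (p * t + 1) * r * k = 144 * q ∧ p * t + 1 ≤ 144 * q ∧ 0 < k ∧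
      r ∈ [144 * q / ((p * t + 1) * k)] := by
  have h' : (p * t + 1) * r * k = 144 * q := Nat.eq_of_mul_eq_mul_right hp (by linarith)
  have hne : 0 < (p * t + 1) * r * k := by omega
  have hk : 0 < k := Nat.pos_of_mul_pos_left hne
  have hr : 0 < r := Nat.pos_of_mul_pos_left (Nat.pos_of_mul_pos_right hne)
  refine ⟨?_, h', ?_, hk, ?_⟩
  · have hc : Nat.Coprime k 144 := (hcop.coprime_mul_right.pow_right 4).coprime_dvd_right (by norm_num)
    exact hc.dvd_of_dvd_mul_left ⟨(p * t + 1) * r, by linarith⟩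
  · rw [← h', mul_assoc]
    exact Nat.le_mul_of_pos_right _ (Nat.mul_pos hr hk)
  · rw [List.mem_singleton, ← h', show (p * t + 1) * r * k = r * ((p * t + 1) * k) by ring,
      Nat.mul_div_cancel _ (Nat.mul_pos (by omega) hk)]

theorem not_order_137 (L : Loc H) (hm : Nat.card H = 144 * (137 * 17)) : False := by
  obtain ⟨x, hx⟩ := L.exists_order_prime (p := 137) (by norm_num) (by rw [hm]; norm_num)
  obtain ⟨t, r, k, hn, hr, -, -, hcop, -, -⟩ := L.local_prime (by norm_num) (by norm_num)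
    (by rw [hm]; norm_num) hx
  obtain ⟨hk, heq, ht, -, hrm⟩ := count_data (by norm_num) (by norm_num) (hn.trans hm) hcop
  refine search_137 t (by omega) k ?_ r hrm (heq.trans (by norm_num)) hr
  rcases (Nat.dvd_prime (by norm_num)).1 hk with rfl | rfl <;> simp

theorem not_order_151 (L : Loc H) (hm : Nat.card H = 144 * (151 * 19)) : False := by
  obtain ⟨x, hx⟩ := L.exists_order_prime (p := 151) (by norm_num) (by rw [hm]; norm_num)
  obtain ⟨t, r, k, hn, hr, -, -, hcop, -, -⟩ := L.local_prime (by norm_num) (by norm_num)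
    (by rw [hm]; norm_num) hx
  obtain ⟨hk, heq, ht, -, hrm⟩ := count_data (by norm_num) (by norm_num) (hn.trans hm) hcop
  refine search_151 t (by omega) k ?_ r hrm (heq.trans (by norm_num)) hr
  rcases (Nat.dvd_prime (by norm_num)).1 hk with rfl | rfl <;> simp

theorem not_order_73 (L : Loc H) (hm : Nat.card H = 144 * (73 * 37)) : False := by
  obtain ⟨x, hx⟩ := L.exists_order_prime (p := 73) (by norm_num) (by rw [hm]; norm_num)
  obtain ⟨t, r, k, hn, hr, h9, -, hcop, -, -⟩ := L.local_prime (by norm_num) (by norm_num)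
    (by rw [hm]; norm_num) hx
  obtain ⟨hk, heq, ht, -, hrm⟩ := count_data (by norm_num) (by norm_num) (hn.trans hm) hcop
  refine h9 (search_73 t (by omega) k ?_ r hrm (heq.trans (by norm_num)) hr)
  rcases (Nat.dvd_prime (by norm_num)).1 hk with rfl | rfl <;> simp

theorem not_order_71 (L : Loc H) (hm : Nat.card H = 144 * (71 * 35)) : False := by
  obtain ⟨x, hx⟩ := L.exists_order_prime (p := 71) (by norm_num) (by rw [hm]; norm_num)
  obtain ⟨t, r, k, hn, hr, -, hq, hcop, hC, hNx⟩ := L.local_prime (by norm_num) (by norm_num)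
    (by rw [hm]; norm_num) hx
  obtain ⟨hk, heq, ht, -, hrm⟩ := count_data (by norm_num) (by norm_num) (hn.trans hm) hcop
  have hk' : k ∈ [1, 5, 7, 35] := by
    obtain ⟨a, b, ha, hb, rfl⟩ := Nat.dvd_mul.1 (show k ∣ 5 * 7 from hk)
    rcases (Nat.dvd_prime (by norm_num)).1 ha with rfl | rfl <;>
      rcases (Nat.dvd_prime (by norm_num)).1 hb with rfl | rfl <;> simp
  obtain (h | h) | ⟨rfl, rfl⟩ := search_71 t (by omega) k hk' r hrm (heq.trans (by norm_num)) hr
  · exact hq 5 (by norm_num) le_rfl h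
  · exact hq 7 (by norm_num) (by norm_num) h
  haveI : Fact (Nat.Prime 5) := ⟨by norm_num⟩
  obtain ⟨y, hy⟩ := exists_prime_orderOf_dvd_card' (G := centralizer ({x} : Set H)) 5 (by rw [hC]; norm_num)
  rw [← orderOf_coe] at hy
  obtain ⟨t', r', k', hn', hr', -, -, hcop', hC', hNy⟩ := L.local_prime (p := 5) (by norm_num) le_rfl
    (by rw [hm]; norm_num) hy
  obtain ⟨hk5, heq5, -, hk'0, -⟩ := count_data (q := 497) (by norm_num) (by norm_num)
    ((hn'.trans hm).trans (by norm_num)) hcop'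
  have hxy : x ∈ centralizer ({(y : H)} : Set H) :=
    mem_centralizer_singleton_iff.2 (mem_centralizer_singleton_iff.1 y.2).symm
  have hk71 : 71 ∣ k' := by
    have h := orderOf_dvd_natCard _ hxy
    rw [hx, hC'] at h
    exact (show Nat.Coprime 71 5 by norm_num).dvd_of_dvd_mul_right h
  have hk'' : k' ∈ [71, 497] := by
    obtain ⟨w, rfl⟩ := hk71
    have hw : w ∣ 7 := (Nat.mul_dvd_mul_iff_left (by norm_num : 0 < 71)).1 (show 71 * w ∣ 71 * 7 from hk5)
    rcases (Nat.dvd_prime (by norm_num)).1 hw with rfl | rfl <;> simp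
  obtain ⟨a, ha, rfl⟩ := (Nat.dvd_prime_pow Nat.prime_two).1 (show r' ∣ 2 ^ 2 from hr')
  have e5 : 71568 = (5 * t' + 1) * (2 ^ a * k') := by rw [← mul_assoc, heq5]
  obtain ⟨rfl, h4⟩ := search_5 a (by omega) k' hk'' (by interval_cases a <;> norm_num)
    (by rw [e5, Nat.mul_mod_left])
    (by rw [e5, Nat.mul_div_cancel _ (by positivity)]; omega)
  rw [h4] at hNy
  have hmem : ∀ {w : H}, Commute w (y : H) → orderOf w = 71 → w ∈ zpowers x := by
    intro w hw ho
    by_contra hwn
    have h := card_mul_le (A := zpowers w) (B := zpowers x) (R := centralizer ({(y : H)} : Set H))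
      (zpowers_le.2 (mem_centralizer_singleton_iff.2 hw.eq)) (zpowers_le.2 hxy)
    have hbot : zpowers w ⊓ zpowers x = ⊥ := by
      haveI : Fact (Nat.card (zpowers w)).Prime := ⟨by rw [Nat.card_zpowers, ho]; norm_num⟩
      rcases (zpowers x).subgroupOf (zpowers w) |>.eq_bot_or_eq_top_of_prime_card with e | e
      · rw [eq_bot_iff]
        rintro v ⟨hv, hvx⟩
        have hv' : (⟨v, hv⟩ : zpowers w) ∈ (zpowers x).subgroupOf (zpowers w) := hvx
        rw [e, mem_bot] at hv'
        exact mem_bot.2 (congrArg Subtype.val hv')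
      · exact absurd (show (⟨w, mem_zpowers w⟩ : zpowers w) ∈ (zpowers x).subgroupOf (zpowers w) from
          e ▸ mem_top _) hwn
    rw [hbot, Subgroup.card_bot, Nat.card_zpowers, Nat.card_zpowers, ho, hx, hC'] at h
    norm_num at h
  have hle : normalizer ((zpowers (y : H) : Subgroup H) : Set H) ≤
      normalizer ((zpowers x : Subgroup H) : Set H) := by
    intro g hg
    refine mem_normalizer_fintype fun v hv => ?_
    obtain ⟨i, rfl⟩ := mem_zpowers_iff.1 hv
    rw [← conj_zpow]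
    refine zpow_mem (hmem ?_ ?_) i
    · have hgy : g⁻¹ * (y : H) * g ∈ zpowers (y : H) :=
        (mem_normalizer_iff''.1 hg (y : H)).1 (mem_zpowers _)
      obtain ⟨j, hj⟩ := mem_zpowers_iff.1 hgy
      have h1 : Commute x (g⁻¹ * (y : H) * g) :=
        hj ▸ (show Commute x (y : H) from mem_centralizer_singleton_iff.1 hxy).zpow_right j
      simpa [MulAut.conj_apply, mul_assoc] using h1.map (MulAut.conj g).toMonoidHom
    · rw [show g * x * g⁻¹ = MulAut.conj g x from rfl, MulEquiv.orderOf_eq, hx]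
  have h := card_le_of_le hle
  rw [hNy, hNx] at h
  norm_num at h

/-- **The local data do not exist.** -/
theorem false_of_loc (L : Loc H) : False := by
  obtain ⟨d, c, hd2, hdd, hdd1, hc0, hc1, heq⟩ := L.degree_eq
  obtain ⟨m, hm⟩ : 144 ∣ Nat.card H := L.card_N ▸ card_subgroup_dvd_card _
  have hm2 : ¬ 2 ∣ m := fun h => L.sylow_two.2 (by
    obtain ⟨a, rfl⟩ := h
    exact ⟨9 * a, by rw [hm]; ring⟩)
  have hm3 : ¬ 3 ∣ m := fun h => L.sylow_three.2 (by
    obtain ⟨a, rfl⟩ := h
    exact ⟨16 * a, by rw [hm]; ring⟩)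
  have hg6 : Nat.gcd m 6 = 1 := Nat.Coprime.mul_right (m := 2) (n := 3)
    ((Nat.prime_two.coprime_iff_not_dvd.2 hm2).symm) ((Nat.prime_three.coprime_iff_not_dvd.2 hm3).symm)
  set e := ((d : ℤ) - c).natAbs with he
  have hsq : ((d : ℤ) - c) ^ 2 = (e : ℤ) * e := by
    rw [pow_two, he, Int.natCast_natAbs, ← abs_mul, abs_mul_self]
  have hdd' : ((d - 1 : ℕ) : ℤ) = (d : ℤ) - 1 := by omega
  have hme : m * (e * e) = 2592 * (d * (d - 1)) := by
    have h : ((144 * (m * (e * e)) : ℕ) : ℤ) = ((144 * (2592 * (d * (d - 1))) : ℕ) : ℤ) := by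
      rw [hm] at heq
      push_cast
      rw [hdd']
      push_cast at heq
      rw [hsq] at heq
      linear_combination heq
    have := Int.ofNat_inj.1 h
    omega
  have hepos : 0 < e := Nat.pos_of_ne_zero fun h0 => by
    rw [h0] at hme
    have : 0 < 2592 * (d * (d - 1)) := Nat.mul_pos (by norm_num) (Nat.mul_pos (by omega) (by omega))
    omega
  have hdvd : e ∣ 2 ^ 8 * 3 ^ 6 * 5 * 7 := by
    have hw : (2 : ℕ) ^ 8 * 3 ^ 6 * 5 * 7 = 2592 * 2520 := by norm_num
    rw [hw]
    have hedc : (e : ℤ) ∣ (d : ℤ) - c := Int.natAbs_dvd.2 dvd_rfl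
    rcases consec_dvd (c + 7).toNat (by omega) with h | h | h <;>
      rw [show (((c + 7).toNat : ℕ) : ℤ) - 7 = c by omega] at h
    · have hed : e = d := by omega
      rw [hed] at hme ⊢
      have h1 : m * d = 2592 * (d - 1) := Nat.eq_of_mul_eq_mul_left (show 0 < d by omega) (by linear_combination hme)
      have h2 : d ∣ 2592 * (d - 1) := ⟨m, by rw [← h1, mul_comm]⟩
      exact ((Nat.coprime_self_sub_right (show 1 ≤ d by omega)).2 (Nat.coprime_one_right d)).dvd_of_dvd_mul_right h2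
        |>.mul_right 2520
    · have hed : e = d - 1 := by omega
      rw [hed] at hme ⊢
      have h1 : m * (d - 1) = 2592 * d :=
        Nat.eq_of_mul_eq_mul_left (show 0 < d - 1 by omega) (by linear_combination hme)
      have h2 : d - 1 ∣ 2592 * d := ⟨m, by rw [← h1, mul_comm]⟩
      exact (((Nat.coprime_self_sub_left (show 1 ≤ d by omega)).2 (Nat.coprime_one_left d))).dvd_of_dvd_mul_right h2
        |>.mul_right 2520
    · have h1 : (e : ℤ) ∣ 2592 * ((d : ℤ) * ((d : ℤ) - 1)) := by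
        rw [← hdd']
        exact_mod_cast Dvd.intro (m * e) (by rw [← hme]; ring : e * (m * e) = 2592 * (d * (d - 1)))
      have h2 : (e : ℤ) ∣ 2592 * ((d : ℤ) * ((d : ℤ) - 1)) - 2592 * (c * (c - 1)) := by
        rw [show 2592 * ((d : ℤ) * ((d : ℤ) - 1)) - 2592 * (c * (c - 1)) =
          ((d : ℤ) - c) * (2592 * ((d : ℤ) + c - 1)) by ring]
        exact hedc.mul_right _
      have h3 := dvd_sub h1 h2
      rw [sub_sub_cancel, Int.natCast_dvd, Int.natAbs_mul] at h3
      exact h3.trans (Nat.mul_dvd_mul (dvd_refl _) h)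
  obtain ⟨e1, e7, h1, h7, he17⟩ := Nat.dvd_mul.1 hdvd
  obtain ⟨e2, e5, h2, h5, rfl⟩ := Nat.dvd_mul.1 h1
  obtain ⟨e3, e4, h3, h4, rfl⟩ := Nat.dvd_mul.1 h2
  obtain ⟨i, hi, rfl⟩ := (Nat.dvd_prime_pow Nat.prime_two).1 h3
  obtain ⟨j, hj, rfl⟩ := (Nat.dvd_prime_pow Nat.prime_three).1 h4
  obtain ⟨k, hk, rfl⟩ := (Nat.dvd_prime_pow (show Nat.Prime 5 by norm_num)).1 (show e5 ∣ 5 ^ 1 by simpa using h5)
  obtain ⟨l, hl, rfl⟩ := (Nat.dvd_prime_pow (show Nat.Prime 7 by norm_num)).1 (show e7 ∣ 7 ^ 1 by simpa using h7)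
  have hM : m = 2329 ∨ m = 2485 ∨ m = 2701 ∨ m = 2869 := by
    have key := degree_search i (by omega) j (by omega) k (by omega) l (by omega) (c + 7).toNat (by omega)
      (if c ≤ d then 0 else 1) (by split_ifs <;> omega)
    have hd' : candDeg (c + 7).toNat e (if c ≤ (d : ℤ) then 0 else 1) = (d : ℤ) := by
      rw [candDeg, show (((c + 7).toNat : ℕ) : ℤ) - 7 = c by omega]
      have h := Int.natAbs_eq ((d : ℤ) - c)
      rw [← he] at h
      by_cases hcd : c ≤ (d : ℤ)
      · rw [if_pos hcd, if_pos rfl]; omega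
      · rw [if_neg hcd, if_neg one_ne_zero]; omega
    rw [he17, CandOK, hd', Int.toNat_natCast] at key
    have hdiv : e * e ∣ 2592 * (d * (d - 1)) := ⟨m, by rw [← hme, mul_comm]⟩
    have hmval : candCof d e = m := by
      rw [candCof, ← hme, Nat.mul_div_cancel _ (Nat.mul_pos hepos hepos)]
    rw [hmval] at key
    simpa using key (by omega) hdiv hg6 (hm ▸ hdd) (hm ▸ hdd1)
  rcases hM with rfl | rfl | rfl | rfl
  exacts [L.not_order_137 hm, L.not_order_71 hm, L.not_order_73 hm, L.not_order_151 hm]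

end Loc

end Cfsg.Agent.DoubleCoverDeg
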