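import Cfsg.Agent.Lib.DoubleCoverDeg.Ten.Loc
import Cfsg.Agent.Lib.Char.LocalTI
import Cfsg.Agent.Lib.Char.Degree
import Cfsg.Agent.Lib.Small.AbelianThreeChar
import Mathlib.RingTheory.RootsOfUnity.Complex

/-!
S1645, degree ten: the exceptional pair of characters of the local group and its degree equation.
-/

set_option autoImplicit false
set_option linter.style.haveILetI false
set_option linter.unusedSectionVars false

namespace Cfsg.Agent.DoubleCoverDeg

open Subgroup Cfsg Cfsg.Agent.Char Cfsg.Agent.LocalTI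
open scoped ComplexConjugate Classical

universe u

namespace Loc

variable {H : Type u} [Group H] [Fintype H] (L : Loc H)

/-- The elements off the kernel of the character. -/
def Dset (y : L.N) : Prop := Commute (y : H) L.u ∧ L.ψ (y : H) ≠ 0

/-- The virtual character. -/
noncomputable def vec (y : L.N) : ℤ := if L.Dset y then -3 else 0

/-- The common centraliser inside the centraliser of the involution. -/
abbrev K0 : Subgroup L.N := (centralizer ({L.u} : Set H)).subgroupOf L.N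

theorem mem_K0 {y : L.N} : y ∈ L.K0 ↔ Commute (y : H) L.u := mem_centralizer_singleton_iff

theorem card_K0 : Nat.card L.K0 = 72 := by
  rw [show L.K0 = (L.N ⊓ centralizer ({L.u} : Set H)).subgroupOf L.N from (inf_subgroupOf_left _ _).symm,
    Nat.card_congr (subgroupOfEquivOfLe inf_le_left).toEquiv]
  exact L.card_K

theorem ψ_inv {x : H} (hz : Commute x L.z) (hu : Commute x L.u) : L.ψ x⁻¹ = -L.ψ x := by
  have h := L.ψ_mul x x⁻¹ hz hu hz.inv_left hu.inv_left
  rw [mul_inv_cancel, ψ_one] at h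
  linear_combination -h

theorem ψ_conj {g x : H} (hg : Commute g L.z) (hxz : Commute x L.z) (hxu : Commute x L.u) :
    L.ψ (g * x * g⁻¹) = if Commute g L.u then L.ψ x else -L.ψ x := by
  split_ifs with h
  · rw [L.ψ_mul _ _ (hg.mul_left hxz) (h.mul_left hxu) hg.inv_left h.inv_left, L.ψ_mul _ _ hg h hxz hxu,
      L.ψ_inv hg h]
    ring
  · exact L.ψ_anti g x hg h hxz hxu

theorem Dset_conj (g y : L.N) : L.Dset (g * y * g⁻¹) ↔ L.Dset y := by
  have key : ∀ g y : L.N, L.Dset y → L.Dset (g * y * g⁻¹) := by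
    intro g y ⟨hu, hψ⟩
    refine ⟨L.K_normal (L.mem_N.1 g.2) hu, ?_⟩
    show L.ψ ((g : H) * y * (g : H)⁻¹) ≠ 0
    rw [L.ψ_conj (L.mem_N.1 g.2) (L.mem_N.1 y.2) hu]
    split_ifs
    · exact hψ
    · exact neg_ne_zero.2 hψ
  refine ⟨fun h => ?_, key g y⟩
  have := key g⁻¹ _ h
  rwa [show g⁻¹ * (g * y * g⁻¹) * g⁻¹⁻¹ = y by group] at this

theorem emb : Emb (L.N).subtype L.Dset where
  inj := L.N.subtype_injective
  ti h h' hh hh' g hg := by
    rw [range_subtype, L.mem_N]
    exact L.ti (L.mem_N.1 h.2) hh.1 hh.2 (L.mem_N.1 h'.2) hh'.1 hh'.2 hg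

/-- The linear character as a homomorphism. -/
noncomputable def lamHom : L.K0 →* ℂˣ where
  toFun y := (Units.mk0 (Complex.exp (2 * Real.pi * Complex.I / (3 : ℕ))) (Complex.exp_ne_zero _)) ^
    (L.ψ ((y : L.N) : H)).val
  map_one' := by simp [ψ_one]
  map_mul' x y := by
    have h3 : (Units.mk0 (Complex.exp (2 * Real.pi * Complex.I / (3 : ℕ))) (Complex.exp_ne_zero _)) ^ 3 = 1 :=
      Units.ext (by rw [Units.val_pow_eq_pow_val, Units.val_mk0]
                    exact (Complex.isPrimitiveRoot_exp 3 (by norm_num)).pow_eq_one)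
    have e : L.ψ (((x * y : L.K0) : L.N) : H) = L.ψ ((x : L.N) : H) + L.ψ ((y : L.N) : H) :=
      L.ψ_mul _ _ (L.mem_N.1 x.1.2) (L.mem_K0.1 x.2) (L.mem_N.1 y.1.2) (L.mem_K0.1 y.2)
    simp only [e, ZMod.val_add]
    rw [← pow_add, pow_eq_pow_mod _ h3]
    rw [Nat.mod_mod, ← pow_eq_pow_mod _ h3]

theorem vec_eq_ind (y : L.N) :
    (L.vec y : ℂ) = indFun L.K0 (fun k => (L.lamHom k : ℂ) - 1) y := by
  rw [indFun_apply, card_K0]
  by_cases hu : Commute (y : H) L.u
  · set t := L.ψ (y : H) with ht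
    set ω := Complex.exp (2 * Real.pi * Complex.I / (3 : ℕ)) with hω
    have hval : ∀ q : L.N, extendByZero L.K0 (fun k => (L.lamHom k : ℂ) - 1) (q⁻¹ * y * q) =
        if q ∈ L.K0 then ω ^ t.val - 1 else ω ^ (-t).val - 1 := by
      intro q
      have hm : q⁻¹ * y * q ∈ L.K0 := by
        rw [L.mem_K0]
        have := L.K_normal (g := (q⁻¹ : L.N)) (L.mem_N.1 (q⁻¹).2) hu
        simpa using this
      rw [extendByZero_mem _ _ hm]
      have h := L.ψ_conj (g := (q : H)⁻¹) (L.mem_N.1 q.2).inv_left (L.mem_N.1 y.2) hu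
      rw [inv_inv] at h
      simp only [lamHom, MonoidHom.coe_mk, OneHom.coe_mk, Units.val_pow_eq_pow_val, Units.val_mk0,
        Subgroup.coe_mul, InvMemClass.coe_inv, h, Commute.inv_left_iff]
      by_cases hq : q ∈ L.K0
      · rw [if_pos hq, if_pos (L.mem_K0.1 hq)]
      · rw [if_neg hq, if_neg (fun e => hq (L.mem_K0.2 e))]
    rw [Finset.sum_congr rfl fun q _ => hval q, Finset.sum_ite, Finset.sum_const, Finset.sum_const]
    have c1 : (Finset.univ.filter fun q : L.N => q ∈ L.K0).card = 72 := by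
      rw [← Fintype.card_subtype, ← Nat.card_eq_fintype_card]; exact L.card_K0
    have c2 : (Finset.univ.filter fun q : L.N => q ∉ L.K0).card = 72 := by
      have h := Finset.card_filter_add_card_filter_not (s := (Finset.univ : Finset L.N)) (fun q => q ∈ L.K0)
      rw [Finset.card_univ, ← Nat.card_eq_fintype_card, L.card_N, c1] at h
      omega
    rw [c1, c2]
    have hω3 : ω ^ 2 = -1 - ω := by
      have := (Complex.isPrimitiveRoot_exp 3 (by norm_num)).geom_sum_eq_zero (by norm_num)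
      rw [← hω] at this
      simp [Finset.sum_range_succ] at this
      linear_combination this
    have hD : L.Dset y ↔ t ≠ 0 := ⟨fun h => h.2, fun h => ⟨hu, h⟩⟩
    simp only [vec, hD, nsmul_eq_mul]
    rcases (by decide : ∀ s : ZMod 3, s = 0 ∨ s = 1 ∨ s = 2) t with e | e | e <;> rw [e]
    · simp
    · rw [show (-1 : ZMod 3) = 2 by decide, show (1 : ZMod 3).val = 1 from rfl, show (2 : ZMod 3).val = 2 from rfl,
        if_pos (show (1 : ZMod 3) ≠ 0 by decide), pow_one, hω3]
      push_cast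
      ring
    · rw [show (-2 : ZMod 3) = 1 by decide, show (1 : ZMod 3).val = 1 from rfl, show (2 : ZMod 3).val = 2 from rfl,
        if_pos (show (2 : ZMod 3) ≠ 0 by decide), pow_one, hω3]
      push_cast
      ring
  · rw [Finset.sum_eq_zero fun q _ => extendByZero_not_mem _ _ fun hm => hu ?_, mul_zero]
    · simp [vec, Dset, hu]
    · have := L.K_normal (g := (q : H)) (L.mem_N.1 q.2) (L.mem_K0.1 hm)
      simpa [mul_assoc] using this

theorem vanishes : Vanish L.Dset L.vec where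
  cls g h := by simp only [vec, L.Dset_conj h g]
  supp h hh := by
    by_contra hn
    exact hh (if_neg hn)
  gen := by
    rw [show (fun h => (L.vec h : ℂ)) = indFun L.K0 (fun k => (L.lamHom k : ℂ) - 1) from funext L.vec_eq_ind]
    exact IsGeneralizedCharacter.indFun _
      ⟨_, _, IsIrrCharacter.isCharacter (isIrrCharacter_linear L.lamHom), isCharacter_one, rfl⟩

/-- The involutions other than the central one. -/
abbrev R : Type u := {a : H // Commute a L.z ∧ a * a = 1 ∧ a ≠ 1 ∧ a ≠ L.z}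

theorem R_not_K (a : L.R) : ¬ Commute (a : H) L.u := fun h =>
  (L.invol_K _ a.2.1 h a.2.2.1).elim a.2.2.2.1 a.2.2.2.2

theorem R_prod (a b : L.R) : Commute ((a : H) * b) L.z ∧ Commute ((a : H) * b) L.u :=
  ⟨a.2.1.mul_left b.2.1, L.K_mul a.2.1 (L.R_not_K a) b.2.1 (L.R_not_K b)⟩

theorem ψ_z : L.ψ L.z = 0 := by
  have h := L.ψ_mul _ _ (Commute.refl L.z) L.u_comm.symm (Commute.refl L.z) L.u_comm.symm
  rw [zz, ψ_one] at h
  revert h
  generalize L.ψ L.z = t
  revert t
  decide

/-- The shift of a pair. -/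
def shift (a : L.R) : L.R :=
  ⟨L.u * a * L.u⁻¹, (L.u_comm.mul_left a.2.1).mul_left L.u_comm.inv_left,
    by rw [show L.u * (a : H) * L.u⁻¹ * (L.u * a * L.u⁻¹) = L.u * (a * a) * L.u⁻¹ by group, a.2.2.1]; group,
    fun e => a.2.2.2.1 (conj_eq_one_iff.1 e),
    fun e => a.2.2.2.2 (by
      calc (a : H) = L.u⁻¹ * (L.u * a * L.u⁻¹) * L.u := by group
        _ = L.z := by rw [e, mul_assoc, ← L.u_comm.eq]; group)⟩

theorem ψ_shift (a b : L.R) : L.ψ ((L.shift a : H) * b) = L.ψ ((a : H) * b) + 2 := by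
  have e : (L.shift a : H) * b = L.u * L.u * ((a : H) * b) := by
    have h := L.anti_u _ a.2.1 (L.R_not_K a)
    calc (L.shift a : H) * b = L.u * ((a : H) * L.u⁻¹ * (a : H)⁻¹) * ((a : H) * b) := by
          show L.u * (a : H) * L.u⁻¹ * b = _
          group
      _ = L.u * ((a : H) * L.u * (a : H)⁻¹)⁻¹ * ((a : H) * b) := by group
      _ = _ := by rw [h, inv_inv]
  rw [e, L.ψ_mul _ _ (L.u_comm.mul_left L.u_comm) ((Commute.refl L.u).mul_left (Commute.refl L.u))
    (L.R_prod a b).1 (L.R_prod a b).2, L.ψ_mul _ _ L.u_comm (Commute.refl _) L.u_comm (Commute.refl _), L.ψ_u]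
  ring

/-- Two thirds of the pairs have product off the kernel. -/
theorem card_pairs : Nat.card {p : L.R × L.R // L.ψ ((p.1 : H) * p.2) ≠ 0} = 864 := by
  let f : ZMod 3 → ℕ := fun k => (Finset.univ.filter fun p : L.R × L.R => L.ψ ((p.1 : H) * p.2) = k).card
  have hstep : ∀ k, f k ≤ f (k + 2) := fun k => by
    refine Finset.card_le_card_of_injOn (fun p => (L.shift p.1, p.2)) ?_ ?_
    · intro p hp
      simp only [Finset.coe_filter, Finset.mem_univ, true_and, Set.mem_setOf_eq] at hp ⊢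
      rw [L.ψ_shift, hp]
    · intro p _ q _ e
      obtain ⟨e1, e2⟩ := Prod.mk.inj e
      exact Prod.ext (Subtype.ext (mul_left_cancel (mul_right_cancel (congrArg Subtype.val e1)))) e2
  have h0 := hstep 0
  have h2 := hstep 2
  have h1 := hstep 1
  rw [show (0 : ZMod 3) + 2 = 2 by decide] at h0
  rw [show (2 : ZMod 3) + 2 = 1 by decide] at h2
  rw [show (1 : ZMod 3) + 2 = 0 by decide] at h1
  have htot : f 0 + f 1 + f 2 = 36 * 36 := by
    have h := Finset.card_eq_sum_card_fiberwise (s := (Finset.univ : Finset (L.R × L.R)))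
      (t := (Finset.univ : Finset (ZMod 3))) (f := fun p => L.ψ ((p.1 : H) * p.2)) fun _ _ => Finset.mem_univ _
    rw [Finset.card_univ, ← Nat.card_eq_fintype_card, Nat.card_prod, L.R_card] at h
    exact (h.trans (Fin.sum_univ_three f)).symm
  rw [Nat.card_eq_fintype_card, Fintype.card_subtype]
  have h := Finset.card_filter_add_card_filter_not (s := (Finset.univ : Finset (L.R × L.R)))
    (fun p => L.ψ ((p.1 : H) * p.2) = 0)
  rw [Finset.card_univ, ← Nat.card_eq_fintype_card, Nat.card_prod, L.R_card] at h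
  change f 0 + _ = _ at h
  trans (Finset.univ.filter fun p : L.R × L.R => ¬ L.ψ ((p.1 : H) * p.2) = 0).card
  · congr 1
  omega

/-- The pairs of conjugates of the involution with product `y`. -/
theorem card_prod_eq {y : L.N} (hy : L.Dset y) :
    Nat.card {a : H // IsConj L.z a ∧ IsConj L.z (a⁻¹ * (y : H))} =
      Nat.card {p : L.R × L.R // (p.1 : H) * p.2 = y} := by
  have inv : ∀ {a : H}, IsConj L.z a → a * a = 1 ∧ a ≠ 1 := by
    intro a ha
    obtain ⟨g, rfl⟩ := isConj_iff.1 ha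
    refine ⟨?_, fun e => L.z_ne (conj_eq_one_iff.1 e)⟩
    rw [show g * L.z * g⁻¹ * (g * L.z * g⁻¹) = g * (L.z * L.z) * g⁻¹ by group, zz]
    group
  refine Nat.card_congr
    { toFun := fun a => ⟨(⟨a.1, ?_, (inv a.2.1).1, (inv a.2.1).2, ?_⟩,
        ⟨(a.1)⁻¹ * y, ?_, (inv a.2.2).1, (inv a.2.2).2, ?_⟩), by simp⟩
      invFun := fun p => ⟨p.1.1, L.R_fused p.1.1.2.1 p.1.1.2.2.1 p.1.1.2.2.2.1, ?_⟩
      left_inv := fun a => Subtype.ext rfl
      right_inv := fun p => ?_ }
  case refine_1 =>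
    obtain ⟨ha, hb⟩ := a.2
    have h1 : a.1 * y * a.1⁻¹ = (y : H)⁻¹ := by
      have h := (inv hb).1
      rw [inv_eq_of_mul_eq_one_right (inv ha).1] at h ⊢
      calc a.1 * y * a.1 = a.1 * y * (a.1 * y) * (y : H)⁻¹ := by group
        _ = _ := by rw [h, one_mul]
    refine L.ti (y := (y : H)⁻¹) (L.mem_N.1 y.2) hy.1 hy.2 (L.mem_N.1 y.2).inv_left hy.1.inv_left ?_ h1
    rw [L.ψ_inv (L.mem_N.1 y.2) hy.1]
    exact neg_ne_zero.2 hy.2
  case refine_3 =>
    obtain ⟨ha, hb⟩ := a.2
    have h1 : a.1 * y * a.1⁻¹ = (y : H)⁻¹ := by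
      have h := (inv hb).1
      rw [inv_eq_of_mul_eq_one_right (inv ha).1] at h ⊢
      calc a.1 * y * a.1 = a.1 * y * (a.1 * y) * (y : H)⁻¹ := by group
        _ = _ := by rw [h, one_mul]
    refine (Commute.inv_left ?_).mul_left (L.mem_N.1 y.2)
    refine L.ti (y := (y : H)⁻¹) (L.mem_N.1 y.2) hy.1 hy.2 (L.mem_N.1 y.2).inv_left hy.1.inv_left ?_ h1
    rw [L.ψ_inv (L.mem_N.1 y.2) hy.1]
    exact neg_ne_zero.2 hy.2
  case refine_2 =>
    intro e
    have hb := (inv a.2.2).1
    rw [e, inv_eq_of_mul_eq_one_right L.zz] at hb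
    have h2 : (y : H) * y = 1 := by
      calc (y : H) * y = L.z * L.z * ((y : H) * y) := by rw [zz, one_mul]
        _ = L.z * (L.z * y) * y := by group
        _ = L.z * (y * L.z) * y := by rw [(L.mem_N.1 y.2).eq]
        _ = _ := by rw [show L.z * ((y : H) * L.z) * y = L.z * y * (L.z * y) by group, hb]
    rcases L.invol_K _ (L.mem_N.1 y.2) hy.1 h2 with e' | e'
    · exact hy.2 (by rw [e', ψ_one])
    · exact hy.2 (by rw [e', ψ_z])
  case refine_4 =>
    intro e
    have e' : (a.1 : H) = y * L.z := by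
      calc (a.1 : H) = y * ((a.1)⁻¹ * y)⁻¹ := by group
        _ = _ := by rw [e, inv_eq_of_mul_eq_one_right L.zz]
    have ha := (inv a.2.1).1
    rw [e'] at ha
    have h2 : (y : H) * y = 1 := by
      calc (y : H) * y = (y : H) * y * (L.z * L.z) := by rw [zz, mul_one]
        _ = y * (y * L.z) * L.z := by group
        _ = y * (L.z * y) * L.z := by rw [(L.mem_N.1 y.2).eq]
        _ = _ := by rw [show (y : H) * (L.z * y) * L.z = y * L.z * (y * L.z) by group, ha]
    rcases L.invol_K _ (L.mem_N.1 y.2) hy.1 h2 with e' | e'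
    · exact hy.2 (by rw [e', ψ_one])
    · exact hy.2 (by rw [e', ψ_z])
  case refine_5 =>
    rw [show (p.1.1 : H)⁻¹ * y = p.1.2 from inv_mul_eq_iff_eq_mul.2 p.2.symm]
    exact L.R_fused p.1.2.2.1 p.1.2.2.2.1 p.1.2.2.2.2.1
  case refine_6 =>
    obtain ⟨⟨a, b⟩, hp⟩ := p
    refine Subtype.ext (Prod.ext (Subtype.ext rfl) (Subtype.ext ?_))
    show (a : H)⁻¹ * y = b
    rw [← hp, inv_mul_cancel_left]

/-- The weighted count. -/
theorem sum_count :
    ∑ y : L.N, L.vec y * (Nat.card {a : H // IsConj L.z a ∧ IsConj L.z (a⁻¹ * (y : H))} : ℤ) = -2592 := by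
  have h : ∀ y : L.N, L.vec y * (Nat.card {a : H // IsConj L.z a ∧ IsConj L.z (a⁻¹ * (y : H))} : ℤ) =
      -3 * (Nat.card {p : {p : L.R × L.R // L.ψ ((p.1 : H) * p.2) ≠ 0} //
        (⟨(p.1.1 : H) * p.1.2, L.mem_N.2 (L.R_prod p.1.1 p.1.2).1⟩ : L.N) = y} : ℤ) := by
    intro y
    by_cases hy : L.Dset y
    · rw [vec, if_pos hy, L.card_prod_eq hy]
      congr 2
      refine Nat.card_congr
        { toFun := fun p => ⟨⟨p.1, by rw [p.2]; exact hy.2⟩, Subtype.ext p.2⟩
          invFun := fun p => ⟨p.1.1, congrArg Subtype.val p.2⟩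
          left_inv := fun p => rfl
          right_inv := fun p => rfl }
    · rw [vec, if_neg hy, zero_mul, Nat.card_eq_zero.2 (Or.inl ⟨fun p => hy ?_⟩), Nat.cast_zero, mul_zero]
      rw [← p.2]
      exact ⟨(L.R_prod _ _).2, p.1.2⟩
  rw [Finset.sum_congr rfl fun y _ => h y, ← Finset.mul_sum, ← Nat.cast_sum, ← Nat.card_sigma,
    Nat.card_congr (Equiv.sigmaFiberEquiv _), L.card_pairs]
  norm_num

/-- **The degree equation of the exceptional pair.** -/
theorem degree_eq (L : Loc H) : ∃ (d : ℕ) (c : ℤ), 2 ≤ d ∧ d ∣ Nat.card H ∧ d - 1 ∣ Nat.card H ∧ -7 ≤ c ∧ c ≤ 8 ∧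
    (Nat.card H : ℤ) * ((d : ℤ) - c) ^ 2 = 373248 * (d * ((d : ℤ) - 1)) := by
  have hv := L.vanishes
  have hN : (Fintype.card L.N : ℤ) = 144 := by rw [← Nat.card_eq_fintype_card, L.card_N]; rfl
  have hDcard : ((Finset.univ.filter fun y : L.N => L.Dset y).card : ℤ) = 48 := by
    let f : ZMod 3 → ℕ := fun k => (Finset.univ.filter fun y : L.K0 => L.ψ ((y : L.N) : H) = k).card
    have hu0 : (⟨L.u, L.mem_N.2 L.u_comm⟩ : L.N) ∈ L.K0 := L.mem_K0.2 (Commute.refl _)
    have hstep : ∀ k, f k ≤ f (k + 1) := fun k => by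
      refine Finset.card_le_card_of_injOn (fun y => y * ⟨_, hu0⟩) ?_ ((mul_left_injective _).injOn)
      intro y hy
      simp only [Finset.coe_filter, Finset.mem_univ, true_and, Set.mem_setOf_eq] at hy ⊢
      rw [← hy]
      show L.ψ (((y : L.N) : H) * L.u) = _
      rw [L.ψ_mul _ _ (L.mem_N.1 (y : L.N).2) (L.mem_K0.1 y.2) L.u_comm (Commute.refl _), L.ψ_u]
    have h0 := hstep 0
    have h1 := hstep 1
    have h2 := hstep 2
    rw [zero_add] at h0
    rw [show (1 : ZMod 3) + 1 = 2 by decide] at h1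
    rw [show (2 : ZMod 3) + 1 = 0 by decide] at h2
    have htot : f 0 + f 1 + f 2 = 72 := by
      have h := Finset.card_eq_sum_card_fiberwise (f := fun y : L.K0 => L.ψ ((y : L.N) : H))
        (s := Finset.univ) (t := (Finset.univ : Finset (ZMod 3))) fun _ _ => Finset.mem_univ _
      rw [Finset.card_univ, ← Nat.card_eq_fintype_card, L.card_K0] at h
      exact (h.trans (Fin.sum_univ_three f)).symm
    have h := Finset.card_filter_add_card_filter_not (s := (Finset.univ : Finset L.K0))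
      (fun y => L.ψ ((y : L.N) : H) = 0)
    rw [Finset.card_univ, ← Nat.card_eq_fintype_card, L.card_K0] at h
    change f 0 + _ = _ at h
    have e : (Finset.univ.filter fun y : L.N => L.Dset y).card =
        (Finset.univ.filter fun y : L.K0 => ¬ L.ψ ((y : L.N) : H) = 0).card := by
      symm
      refine Finset.card_bij (fun (y : L.K0) _ => (y : L.N)) ?_ (fun a _ b _ e => Subtype.ext e) ?_
      · intro y hy
        exact Finset.mem_filter.2 ⟨Finset.mem_univ _, L.mem_K0.1 y.2, (Finset.mem_filter.1 hy).2⟩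
      · intro y hy
        obtain ⟨-, hu, hψ⟩ := Finset.mem_filter.1 hy
        exact ⟨⟨y, L.mem_K0.2 hu⟩, Finset.mem_filter.2 ⟨Finset.mem_univ _, hψ⟩, rfl⟩
    rw [e]
    omega
  have s1 : ∑ y, L.vec y = -144 := by
    simp only [vec, Finset.sum_ite, Finset.sum_const_zero, add_zero, Finset.sum_const, nsmul_eq_mul]
    rw [hDcard]
    norm_num
  have s2 : ∑ y, L.vec y * L.vec y = 432 := by
    simp only [vec, ite_mul, mul_ite, zero_mul, mul_zero]
    rw [Finset.sum_congr rfl (fun y _ => show _ = if L.Dset y then (9 : ℤ) else 0 by split_ifs <;> norm_num)]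
    simp only [Finset.sum_ite, Finset.sum_const_zero, add_zero, Finset.sum_const, nsmul_eq_mul]
    rw [hDcard]
    norm_num
  let a : IrrCharacter H → ℤ := coef hv (L.N).subtype
  have hone : a (Char.principal H) = -1 := by
    have h := coef_one hv (L.N).subtype (χ := Char.principal H) fun _ => rfl
    rw [s1, hN] at h
    show coef hv _ _ = -1
    omega
  have hnorm : ∑ χ, a χ * a χ = ((3 : ℕ) : ℤ) := by
    have h := LocalTI.orth L.emb hv hv
    rw [s2, hN] at h
    show ∑ χ, coef hv _ χ * coef hv _ χ = _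
    push_cast
    omega
  obtain ⟨hcard, hb⟩ := Exc.support_of_sq_sum Finset.univ a (le_refl 3) hnorm
  set T := Finset.univ.filter fun χ => a χ ≠ 0 with hT
  have hmem : Char.principal H ∈ T := Finset.mem_filter.2 ⟨Finset.mem_univ _, by rw [hone]; norm_num⟩
  obtain ⟨μ, ν, hne, hTe⟩ := Finset.card_eq_two.1 (show (T.erase (Char.principal H)).card = 2 by
    rw [Finset.card_erase_of_mem hmem, hcard])
  have hμ : μ ∈ T.erase (Char.principal H) := hTe ▸ Finset.mem_insert_self _ _
  have hν : ν ∈ T.erase (Char.principal H) := hTe ▸ Finset.mem_insert_of_mem (Finset.mem_singleton_self _)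
  have hsum : ∀ F : IrrCharacter H → ℂ, ∑ χ, (a χ : ℂ) * F χ =
      -F (Char.principal H) + (a μ : ℂ) * F μ + (a ν : ℂ) * F ν := by
    intro F
    rw [← Finset.sum_subset (Finset.subset_univ T) (fun χ _ hχ => by
      simp only [hT, Finset.mem_filter, Finset.mem_univ, true_and, not_not] at hχ
      simp [hχ]), ← Finset.add_sum_erase _ _ hmem, hTe, Finset.sum_pair hne, hone]
    push_cast
    ring
  have hzero : ∀ w : H, w * w = 1 → ∑ χ, (a χ : ℂ) * (χ : H → ℂ) w = 0 := by
    intro w hw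
    refine LocalTI.vanish hv fun y hy hc => ?_
    obtain ⟨g, hg⟩ := isConj_iff.1 hc
    have hg' : g * w * g⁻¹ = (y : H) := hg
    have h2 : (y : H) * y = 1 := by
      rw [← hg', show g * w * g⁻¹ * (g * w * g⁻¹) = g * (w * w) * g⁻¹ by group, hw]
      group
    rcases L.invol_K _ (L.mem_N.1 y.2) hy.1 h2 with e | e
    · exact hy.2 (by rw [e, ψ_one])
    · exact hy.2 (by rw [e, ψ_z])
  choose cv hcv using fun χ : IrrCharacter H =>
    AbThree.exists_int_of_sq (IsIrrCharacter.isCharacter χ.2) L.z_ord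
  let dg : IrrCharacter H → ℤ := fun χ => (Cfsg.charDegree (χ : H → ℂ) : ℤ)
  have hdg : ∀ χ : IrrCharacter H, (χ : H → ℂ) 1 = (dg χ : ℂ) := fun χ => by
    rw [CharX.irr_deg χ]
    simp [dg]
  have hpd : dg (Char.principal H) = 1 := by
    have h := hdg (Char.principal H)
    change (1 : ℂ) = _ at h
    exact_mod_cast h.symm
  have hpc : cv (Char.principal H) = 1 := by
    have h := hcv (Char.principal H)
    change (1 : ℂ) = _ at h
    exact_mod_cast h.symm
  have e1 : a μ * dg μ + a ν * dg ν = 1 := by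
    have h := hzero 1 (one_mul 1)
    rw [hsum, hdg, hdg, hdg, hpd] at h
    have h' : ((-1 + a μ * dg μ + a ν * dg ν : ℤ) : ℂ) = ((0 : ℤ) : ℂ) := by push_cast at h ⊢; exact h
    have := Int.cast_injective h'
    omega
  have ez : a μ * cv μ + a ν * cv ν = 1 := by
    have h := hzero L.z L.zz
    rw [hsum, hcv, hcv, hcv, hpc] at h
    have h' : ((-1 + a μ * cv μ + a ν * cv ν : ℤ) : ℂ) = ((0 : ℤ) : ℂ) := by push_cast at h ⊢; exact h
    have := Int.cast_injective h'
    omega
  -- the structure constant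
  have hS : (Nat.card H : ℂ) * ∑ χ, (a χ : ℂ) * ((cv χ : ℂ) * (cv χ : ℂ) / (dg χ : ℂ)) = -373248 := by
    have hpc' : ∀ y : L.N, (L.vec y : ℂ) * (Nat.card {x : H // IsConj L.z x ∧ IsConj L.z (x⁻¹ * (y : H))} : ℂ) *
        144 * 144 = (Nat.card H : ℂ) * ∑ χ : IrrCharacter H,
          (cv χ : ℂ) * (cv χ : ℂ) / (dg χ : ℂ) * ((L.vec y : ℂ) * conj ((χ : H → ℂ) (L.N.subtype y))) := by
      intro y
      have h := ClassCount.pair_count L.z L.z (y : H)
      rw [L.card_N] at h
      push_cast at h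
      rw [mul_assoc (L.vec y : ℂ), mul_assoc, h, Finset.mul_sum, Finset.mul_sum, Finset.mul_sum]
      refine Finset.sum_congr rfl fun χ _ => ?_
      rw [hcv, hdg]
      show _ = (Nat.card H : ℂ) * ((cv χ : ℂ) * (cv χ : ℂ) / (dg χ : ℂ) * ((L.vec y : ℂ) * conj ((χ : H → ℂ) (y : H))))
      ring
    have h := Finset.sum_congr rfl (fun y (_ : y ∈ (Finset.univ : Finset L.N)) => hpc' y)
    rw [← Finset.sum_mul, ← Finset.sum_mul, ← Finset.mul_sum, Finset.sum_comm] at h
    have hc : ((∑ y : L.N, L.vec y *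
        (Nat.card {x : H // IsConj L.z x ∧ IsConj L.z (x⁻¹ * (y : H))} : ℤ) : ℤ) : ℂ) = ((-2592 : ℤ) : ℂ) := by
      rw [L.sum_count]
    push_cast at hc
    rw [hc] at h
    have hterm : ∀ χ : IrrCharacter H, ∑ y : L.N,
        (cv χ : ℂ) * (cv χ : ℂ) / (dg χ : ℂ) * ((L.vec y : ℂ) * conj ((χ : H → ℂ) (L.N.subtype y))) =
        144 * ((a χ : ℂ) * ((cv χ : ℂ) * (cv χ : ℂ) / (dg χ : ℂ))) := by
      intro χ
      rw [← Finset.mul_sum, ← coef_spec hv, show (Fintype.card L.N : ℂ) = 144 by exact_mod_cast hN]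
      ring
    rw [Finset.sum_congr rfl fun χ _ => hterm χ, ← Finset.mul_sum] at h
    linear_combination (-(1 / 144 : ℂ)) * h
  rw [hsum, hpc, hpd] at hS
  -- the bound
  have hbound : 1 + cv μ * cv μ + cv ν * cv ν ≤ 144 := by
    have h := column_orth_of_isConj (IsConj.refl L.z)
    rw [L.card_N, Finset.sum_congr rfl fun χ _ => by rw [hcv, map_intCast]] at h
    have h' : ((∑ χ, cv χ * cv χ : ℤ) : ℂ) = ((144 : ℤ) : ℂ) := by push_cast at h ⊢; exact h
    rw [← Int.cast_injective h']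
    have hs : ({Char.principal H, μ, ν} : Finset (IrrCharacter H)) ⊆ Finset.univ := Finset.subset_univ _
    refine le_trans (le_of_eq ?_) (Finset.sum_le_sum_of_subset_of_nonneg hs fun χ _ _ => mul_self_nonneg _)
    rw [Finset.sum_insert (by simp [Ne.symm (Finset.mem_erase.1 hμ).1, Ne.symm (Finset.mem_erase.1 hν).1]),
      Finset.sum_pair hne, hpc]
    ring
  have hdpos : ∀ χ, 0 < dg χ := fun χ => by simp only [dg]; exact_mod_cast CharX.irr_deg_pos χ
  have hdvd : ∀ χ : IrrCharacter H, Cfsg.charDegree (χ : H → ℂ) ∣ Nat.card H := CharX.irr_deg_dvd_card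
  have fin : ∀ μ ν : IrrCharacter H, dg ν = dg μ - 1 → cv ν = cv μ - 1 →
      1 + cv μ * cv μ + cv ν * cv ν ≤ 144 →
      (Nat.card H : ℂ) * (-(1 * 1 / 1) + (cv μ * cv μ / dg μ) - (cv ν * cv ν / dg ν) : ℂ) = -373248 →
      ∃ (d : ℕ) (c : ℤ), 2 ≤ d ∧ d ∣ Nat.card H ∧ d - 1 ∣ Nat.card H ∧ -7 ≤ c ∧ c ≤ 8 ∧
        (Nat.card H : ℤ) * ((d : ℤ) - c) ^ 2 = 373248 * (d * ((d : ℤ) - 1)) := by
    intro μ ν hd hc hb hS
    have hp := hdpos μ
    have hq := hdpos ν
    rw [hd] at hq
    refine ⟨Cfsg.charDegree (μ : H → ℂ), cv μ, by simp only [dg] at hq; omega, hdvd μ, ?_, ?_, ?_, ?_⟩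
    · have e : Cfsg.charDegree (μ : H → ℂ) - 1 = Cfsg.charDegree (ν : H → ℂ) := by simp only [dg] at hd; omega
      rw [e]
      exact hdvd ν
    · rw [hc] at hb
      nlinarith
    · rw [hc] at hb
      nlinarith
    · have h1 : (dg μ : ℂ) ≠ 0 := Int.cast_ne_zero.2 hp.ne'
      have h2 : ((dg μ : ℂ) - 1) ≠ 0 := by
        rw [← Int.cast_one, ← Int.cast_sub]
        exact Int.cast_ne_zero.2 hq.ne'
      rw [hd, hc] at hS
      push_cast at hS
      field_simp at hS
      have h' : (((Nat.card H : ℤ) * (dg μ - cv μ) ^ 2 : ℤ) : ℂ) = ((373248 * (dg μ * (dg μ - 1)) : ℤ) : ℂ) := by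
        push_cast
        linear_combination -hS
      exact Int.cast_injective h'
  have hμ1 := hb μ (Finset.mem_of_mem_erase hμ)
  have hν1 := hb ν (Finset.mem_of_mem_erase hν)
  have := hdpos μ
  have := hdpos ν
  rcases hμ1 with ha | ha <;> rcases hν1 with hb' | hb' <;> rw [ha, hb'] at e1 ez <;> rw [ha, hb'] at hS
  · omega
  · refine fin μ ν (by omega) (by omega) hbound ?_
    push_cast at hS ⊢
    linear_combination hS
  · refine fin ν μ (by omega) (by omega) (by omega) ?_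
    push_cast at hS ⊢
    linear_combination hS
  · omega

end Loc

end Cfsg.Agent.DoubleCoverDeg
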