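import Cfsg.Agent.Lib.DoubleCoverDeg.FourBound

/-!
A four-group without common fixed points on a group of odd order: the order is the product of the three fixed
subgroups.
-/

set_option autoImplicit false
set_option linter.style.haveILetI false
set_option linter.unusedSectionVars false

namespace Cfsg.Agent.DoubleCoverDeg

open Subgroup

universe u

variable {G : Type u} [Group G] [Finite G]

/-- **A four-group fixing nothing in an odd group: the order is the product of the three fixed orders.** -/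
theorem card_eq_fixed_mul (K : Subgroup G) (hK : Odd (Nat.card K)) {x y : G}
    (hx : x * x = 1) (hy : y * y = 1) (hxy : x * y = y * x)
    (hxK : ∀ k ∈ K, x * k * x⁻¹ ∈ K) (hyK : ∀ k ∈ K, y * k * y⁻¹ ∈ K)
    (h1 : ∀ k ∈ K, Commute k x → Commute k y → k = 1) :
    Nat.card K = Nat.card ↥(K ⊓ centralizer ({x} : Set G)) *
      (Nat.card ↥(K ⊓ centralizer ({y} : Set G)) * Nat.card ↥(K ⊓ centralizer ({x * y} : Set G))) := by
  refine le_antisymm ?_ ?_
  · have hb : K ⊓ centralizer ({x} : Set G) ⊓ centralizer ({y} : Set G) = ⊥ :=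
      (eq_bot_iff_forall _).2 fun k hk =>
        h1 k hk.1.1 (mem_centralizer_singleton_iff.1 hk.1.2) (mem_centralizer_singleton_iff.1 hk.2)
    have := card_mul_four_le K hK hx hy hxy hxK hyK
    rwa [hb, Subgroup.card_bot, one_pow, mul_one] at this
  obtain ⟨m, hm⟩ := hK
  have key : ∀ d : G, d ∈ K → (d * d) ^ (m + 1) = d := fun d hd => by
    have h2 : d ^ Nat.card K = 1 := orderOf_dvd_iff_pow_eq_one.1 (orderOf_dvd_natCard _ hd)
    rw [← pow_two, ← pow_mul, show 2 * (m + 1) = Nat.card K + 1 by omega, pow_succ, h2, one_mul]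
  have sq_inj : ∀ a b : G, a ∈ K → b ∈ K → a * a = b * b → a = b := fun a b ha hb e => by
    rw [← key a ha, ← key b hb, e]
  have hmem : ∀ {w k : G}, k ∈ K ⊓ centralizer ({w} : Set G) → k ∈ K ∧ w * k * w⁻¹ = k := fun {w k} hk =>
    ⟨hk.1, by rw [← (show k * w = w * k from mem_centralizer_singleton_iff.1 hk.2), mul_inv_cancel_right]⟩
  have inv_of : ∀ {w : G}, Commute x w → ∀ {k : G}, k ∈ K →
      (∀ l ∈ K, Commute l x → Commute l w → l = 1) → Commute k w → x * k * x⁻¹ = k⁻¹ := by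
    intro w hxw k hk hone hkw
    set a := k⁻¹ * (x * k * x⁻¹) with ha
    have haK : a ∈ K := mul_mem (inv_mem hk) (hxK k hk)
    have hainv : x * a * x⁻¹ = a⁻¹ := by
      calc x * a * x⁻¹ = (x * k * x⁻¹)⁻¹ * ((x * x) * k * (x * x)⁻¹) := by rw [ha]; group
        _ = a⁻¹ := by rw [hx, ha]; group
    set s := a ^ (m + 1) with hs
    have hss : s * s = a := by
      rw [hs, ← (Commute.refl a).mul_pow, key a haK]
    have hsinv : x * s * x⁻¹ = s⁻¹ := by rw [hs, ← conj_pow, hainv, inv_pow]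
    have hks : Commute (k * s) w := hkw.mul_left
      (((hkw.inv_left).mul_left ((hxw.mul_left hkw).mul_left hxw.inv_left)).pow_left (m + 1))
    have hksx : Commute (k * s) x := by
      refine (mul_inv_eq_iff_eq_mul.1 ?_).symm
      calc x * (k * s) * x⁻¹ = (x * k * x⁻¹) * (x * s * x⁻¹) := by group
        _ = k * a * s⁻¹ := by rw [hsinv, ha]; group
        _ = k * s := by rw [← hss]; group
    have hone' := hone _ (mul_mem hk (pow_mem haK _)) hksx hks
    have hks' : s = k⁻¹ := eq_inv_of_mul_eq_one_right hone'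
    calc x * k * x⁻¹ = k * a := by rw [ha]; group
      _ = k⁻¹ := by rw [← hss, hks']; group
  have hxy' : Commute x (x * y) := (Commute.refl x).mul_right hxy
  have hfix : ∀ l ∈ K, Commute l x → Commute l (x * y) → l = 1 := fun l hl hlx hlxy => by
    refine h1 l hl hlx ?_
    have := hlx.inv_right.mul_right hlxy
    rwa [inv_mul_cancel_left] at this
  rw [← Nat.card_prod, ← Nat.card_prod]
  refine Nat.card_le_card_of_injective (fun p => (⟨(p.1 : G) * ((p.2.2 : G) * p.2.1 * p.2.2),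
    mul_mem p.1.2.1 (mul_mem (mul_mem p.2.2.2.1 p.2.1.2.1) p.2.2.2.1)⟩ : K)) ?_
  rintro ⟨c, e, f⟩ ⟨c', e', f'⟩ h
  replace h : (c : G) * ((f : G) * e * f) = c' * ((f' : G) * e' * f') := congrArg Subtype.val h
  have he : ∀ q : ↥(K ⊓ centralizer ({y} : Set G)), x * (q : G) * x⁻¹ = (q : G)⁻¹ := fun q =>
    inv_of hxy q.2.1 h1 (mem_centralizer_singleton_iff.1 q.2.2)
  have hf : ∀ q : ↥(K ⊓ centralizer ({x * y} : Set G)), x * (q : G) * x⁻¹ = (q : G)⁻¹ := fun q =>
    inv_of hxy' q.2.1 hfix (mem_centralizer_singleton_iff.1 q.2.2)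
  have hfy : ∀ q : ↥(K ⊓ centralizer ({x * y} : Set G)), y * (q : G) * y⁻¹ = (q : G)⁻¹ := fun q => by
    have h2 := (hmem q.2).2
    rw [← hf q]
    calc y * (q : G) * y⁻¹ = x⁻¹ * (x * y * q * (x * y)⁻¹) * x := by group
      _ = _ := by rw [h2, inv_eq_of_mul_eq_one_right hx]
  have hi : ∀ (a : ↥(K ⊓ centralizer ({y} : Set G))) (b : ↥(K ⊓ centralizer ({x * y} : Set G))),
      x * ((b : G) * a * b) * x⁻¹ = ((b : G) * a * b)⁻¹ := fun a b => by
    rw [show x * ((b : G) * a * b) * x⁻¹ = (x * b * x⁻¹) * (x * a * x⁻¹) * (x * b * x⁻¹) by group, he, hf]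
    group
  have hc : ∀ q : ↥(K ⊓ centralizer ({x} : Set G)), x * (q : G) * x⁻¹ = q := fun q => (hmem q.2).2
  have hib : ∀ (a : ↥(K ⊓ centralizer ({y} : Set G))) (b : ↥(K ⊓ centralizer ({x * y} : Set G))),
      (b : G) * a * b ∈ K := fun a b => mul_mem (mul_mem b.2.1 a.2.1) b.2.1
  have e1 : (f : G) * e * f = f' * e' * f' := by
    refine sq_inj _ _ (hib e f) (hib e' f') ?_
    have h2 : (c : G) * ((f : G) * e * f)⁻¹ = c' * ((f' : G) * e' * f')⁻¹ := by
      rw [← hi e f, ← hi e' f']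
      calc (c : G) * (x * ((f : G) * e * f) * x⁻¹)
          = (x * c * x⁻¹) * (x * ((f : G) * e * f) * x⁻¹) := by rw [hc]
        _ = x * (c * ((f : G) * e * f)) * x⁻¹ := by group
        _ = x * (c' * ((f' : G) * e' * f')) * x⁻¹ := by rw [h]
        _ = (x * c' * x⁻¹) * (x * ((f' : G) * e' * f') * x⁻¹) := by group
        _ = _ := by rw [hc]
    calc ((f : G) * e * f) * ((f : G) * e * f)
        = ((c : G) * ((f : G) * e * f)⁻¹)⁻¹ * (c * ((f : G) * e * f)) := by group
      _ = ((c' : G) * ((f' : G) * e' * f')⁻¹)⁻¹ * (c' * ((f' : G) * e' * f')) := by rw [h2, h]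
      _ = _ := by group
  have ec : c = c' := Subtype.ext (mul_right_cancel (e1 ▸ h))
  have hty : ∀ (a : ↥(K ⊓ centralizer ({y} : Set G))) (b : ↥(K ⊓ centralizer ({x * y} : Set G))),
      y * ((b : G) * a * b) * y⁻¹ = (b : G)⁻¹ * a * (b : G)⁻¹ := fun a b => by
    rw [show y * ((b : G) * a * b) * y⁻¹ = (y * b * y⁻¹) * (y * a * y⁻¹) * (y * b * y⁻¹) by group, (hmem a.2).2,
      hfy]
  have e2 : (f : G)⁻¹ * e * (f : G)⁻¹ = (f' : G)⁻¹ * e' * (f' : G)⁻¹ := by rw [← hty, ← hty, e1]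
  have e3 : (f : G) * f * ((f : G)⁻¹ * e * (f : G)⁻¹) =
      (f' : G) * f' * ((f' : G)⁻¹ * e' * (f' : G)⁻¹) := by
    have m1 : ∀ (a : ↥(K ⊓ centralizer ({y} : Set G))) (b : ↥(K ⊓ centralizer ({x * y} : Set G))),
        (b : G) * b * ((b : G)⁻¹ * a * (b : G)⁻¹) ∈ K := fun a b =>
      mul_mem (mul_mem b.2.1 b.2.1) (mul_mem (mul_mem (inv_mem b.2.1) a.2.1) (inv_mem b.2.1))
    refine sq_inj _ _ (m1 e f) (m1 e' f') ?_
    calc (f : G) * f * ((f : G)⁻¹ * e * (f : G)⁻¹) * ((f : G) * f * ((f : G)⁻¹ * e * (f : G)⁻¹))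
        = ((f : G) * e * f) * ((f : G)⁻¹ * e * (f : G)⁻¹) := by group
      _ = ((f' : G) * e' * f') * ((f' : G)⁻¹ * e' * (f' : G)⁻¹) := by rw [e1, e2]
      _ = _ := by group
  have e4 : (f : G) * f = f' * f' := by
    have e5 := e3
    rw [e2] at e5
    exact mul_right_cancel e5
  have ef : f = f' := Subtype.ext (sq_inj _ _ f.2.1 f'.2.1 e4)
  subst ef ec
  exact Prod.ext rfl (Prod.ext (Subtype.ext (mul_left_cancel (mul_right_cancel e1))) rfl)

end Cfsg.Agent.DoubleCoverDeg
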