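import Cfsg.Agent.Lib.DoubleCoverDeg.Ten.Fixed
import Cfsg.Agent.Lib.DoubleCoverDeg.Cen
import Cfsg.Agent.Lib.BrauerSuzuki.ZStar
import Mathlib.GroupTheory.Nilpotent
import Mathlib.GroupTheory.Sylow
import Mathlib.Algebra.Field.ZMod

/-!
S1645, degree ten: the local data in the centraliser of a lift of two three-cycles modulo that lift, and the
centralisers of elements of orders two and three.
-/

set_option autoImplicit false
set_option linter.style.haveILetI false
set_option linter.unusedSectionVars false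

namespace Cfsg.Agent.DoubleCoverDeg

open Subgroup

universe u

/-- The local data. -/
structure Loc (H : Type u) [Group H] where
  /-- the involution -/
  z : H
  /-- the element of order three -/
  u : H
  /-- the linear character of the common centraliser -/
  ψ : H → ZMod 3
  z_ord : orderOf z = 2
  card_N : Nat.card (centralizer ({z} : Set H)) = 144
  u_comm : Commute u z
  u_cube : u ^ 3 = 1
  card_K : Nat.card ↥(centralizer ({z} : Set H) ⊓ centralizer ({u} : Set H)) = 72
  ψ_mul : ∀ x y, Commute x z → Commute x u → Commute y z → Commute y u → ψ (x * y) = ψ x + ψ y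
  ψ_u : ψ u = 1
  ψ_anti : ∀ g x, Commute g z → ¬ Commute g u → Commute x z → Commute x u → ψ (g * x * g⁻¹) = -ψ x
  anti_u : ∀ g, Commute g z → ¬ Commute g u → g * u * g⁻¹ = u⁻¹
  strong : ∀ h, Commute (h * u * h⁻¹) z → Commute h z
  invol_K : ∀ x, Commute x z → Commute x u → x * x = 1 → x = 1 ∨ x = z
  R_conj : ∀ a b, Commute a z → a * a = 1 → a ≠ 1 → a ≠ z → Commute b z → b * b = 1 → b ≠ 1 → b ≠ z →
    ∃ g, Commute g z ∧ g * a * g⁻¹ = b
  R_card : Nat.card {a : H // Commute a z ∧ a * a = 1 ∧ a ≠ 1 ∧ a ≠ z} = 36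
  fused : ∃ h, Commute (h * z * h⁻¹) z ∧ h * z * h⁻¹ ≠ z
  three : ∀ b, Commute b z → Commute b u → b ^ 3 = 1 → b ≠ 1 →
    (∀ h, Commute (h * b * h⁻¹) z → Commute h z) ∨
    (Nat.card ↥(centralizer ({z} : Set H) ⊓ centralizer ({b} : Set H)) = 18 ∧
      ∃ σ, Commute σ z ∧ σ * σ = 1 ∧ σ * u * σ⁻¹ = u⁻¹ ∧ σ * b * σ⁻¹ = b⁻¹)
  exp3 : ∀ x, Commute x z → x ^ 9 = 1 → x ^ 3 = 1

namespace Loc

variable {H : Type u} [Group H] (L : Loc H)

/-- The centraliser of the involution. -/
abbrev N : Subgroup H := centralizer ({L.z} : Set H)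

theorem mem_N {x : H} : x ∈ L.N ↔ Commute x L.z := mem_centralizer_singleton_iff

theorem zz : L.z * L.z = 1 := by rw [← pow_two, ← L.z_ord, pow_orderOf_eq_one]

theorem z_ne : L.z ≠ 1 := fun e => by
  have h := L.z_ord
  rw [e, orderOf_one] at h
  norm_num at h

theorem ψ_one : L.ψ 1 = 0 := by
  have h := L.ψ_mul 1 1 (Commute.one_left _) (Commute.one_left _) (Commute.one_left _) (Commute.one_left _)
  rw [mul_one] at h
  linear_combination -h

theorem ψ_pow {x : H} (hz : Commute x L.z) (hu : Commute x L.u) (k : ℕ) : L.ψ (x ^ k) = k • L.ψ x := by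
  induction k with
  | zero => rw [pow_zero, zero_nsmul, ψ_one]
  | succ k ih => rw [pow_succ, L.ψ_mul _ _ (hz.pow_left k) (hu.pow_left k) hz hu, ih, succ_nsmul]

theorem u_ne : L.u ≠ 1 := fun e => by
  have h := L.ψ_u
  rw [e, ψ_one] at h
  exact absurd h (by decide)

theorem u_order : orderOf L.u = 3 := orderOf_eq_prime L.u_cube L.u_ne

/-- The common centraliser is normal in the centraliser of the involution. -/
theorem K_normal {g x : H} (hg : Commute g L.z) (hxu : Commute x L.u) : Commute (g * x * g⁻¹) L.u := by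
  by_cases h : Commute g L.u
  · exact (h.mul_left hxu).mul_left h.inv_left
  · have e := L.anti_u g hg h
    have := hxu.inv_right.map (MulAut.conj g).toMonoidHom
    simpa [MulAut.conj_apply, map_inv, e] using this

/-- The index is two. -/
theorem K_mul {g h : H} (hg : Commute g L.z) (hg' : ¬ Commute g L.u) (hh : Commute h L.z)
    (hh' : ¬ Commute h L.u) : Commute (g * h) L.u := by
  have e1 := L.anti_u g hg hg'
  have e2 := L.anti_u h hh hh'
  show g * h * L.u = L.u * (g * h)
  rw [← mul_inv_eq_iff_eq_mul]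
  calc g * h * L.u * (g * h)⁻¹ = g * (h * L.u * h⁻¹) * g⁻¹ := by group
    _ = (g * L.u * g⁻¹)⁻¹ := by rw [e2]; group
    _ = L.u := by rw [e1, inv_inv]

/-- Elements of odd order of the centraliser of the involution centralise `u`. -/
theorem odd_mem_K {g : H} (hg : Commute g L.z) {k : ℕ} (hk : Odd k) (h : g ^ k = 1) : Commute g L.u := by
  by_contra hn
  obtain ⟨m, rfl⟩ := hk
  have h2 : Commute (g * g) L.u := L.K_mul hg hn hg hn
  have h3 : Commute ((g * g) ^ m)⁻¹ L.u := (h2.pow_left m).inv_left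
  rw [← pow_two, ← pow_mul, inv_eq_of_mul_eq_one_right (by rw [← pow_succ, h])] at h3
  exact hn h3

variable [Finite H]

theorem nine_of_odd_dvd {m : ℕ} (hm : Odd m) (h : m ∣ 144) : m ∣ 9 :=
  (Nat.Coprime.pow_right 4 (Nat.coprime_two_right.2 hm)).dvd_of_dvd_mul_left (show m ∣ 2 ^ 4 * 9 from h)

theorem three_part {m : ℕ} (hm : m ∣ 144) {k : ℕ} (e : m = 3 ^ k) : k ≤ 2 := by
  subst e
  by_contra hk
  have : 3 ^ 3 ∣ 144 := (pow_dvd_pow 3 (by omega)).trans hm
  norm_num at this

/-- **A three-group containing `u` centralises the involution.** -/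
theorem three_le {Q : Subgroup H} (hQ : IsPGroup 3 Q) (hu : L.u ∈ Q) : Q ≤ L.N := by
  haveI : Fact (Nat.Prime 3) := ⟨by norm_num⟩
  by_contra hn
  have hlt : (L.N.subgroupOf Q) < ⊤ := lt_top_iff_ne_top.2 fun e => hn fun q hq =>
    (show (⟨q, hq⟩ : Q) ∈ L.N.subgroupOf Q from e ▸ mem_top _)
  haveI := hQ.isNilpotent
  obtain ⟨g, hg, hgN⟩ := SetLike.exists_of_lt
    (_root_.Group.normalizerCondition_of_isNilpotent (L.N.subgroupOf Q) hlt)
  refine hgN ?_
  have := (mem_normalizer_iff.1 hg ⟨L.u, hu⟩).1 (L.mem_N.2 L.u_comm)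
  exact L.mem_N.2 (L.strong _ (L.mem_N.1 this))

theorem card_cen_conj {x y : H} (h : IsConj x y) :
    Nat.card (centralizer ({x} : Set H)) = Nat.card (centralizer ({y} : Set H)) := by
  obtain ⟨g, rfl⟩ := isConj_iff.1 h
  have e : centralizer ({g * x * g⁻¹} : Set H) = (centralizer ({x} : Set H)).map (MulAut.conj g).toMonoidHom := by
    ext k
    rw [mem_map_equiv, MulAut.conj_symm_apply, mem_centralizer_singleton_iff, mem_centralizer_singleton_iff]
    constructor
    · intro hk
      calc g⁻¹ * k * g * x = g⁻¹ * (k * (g * x * g⁻¹)) * g := by group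
        _ = _ := by rw [hk]; group
    · intro hk
      calc k * (g * x * g⁻¹) = g * (g⁻¹ * k * g * x) * g⁻¹ := by group
        _ = _ := by rw [hk]; group
  rw [e, card_map_of_injective (MulAut.conj g).injective]

/-- The other involutions of the centraliser are conjugate to the central one. -/
theorem R_fused {a : H} (ha : Commute a L.z) (h2 : a * a = 1) (h1 : a ≠ 1) : IsConj L.z a := by
  by_cases hz : a = L.z
  · rw [hz]
  obtain ⟨h, hc, hne⟩ := L.fused
  have hh2 : h * L.z * h⁻¹ * (h * L.z * h⁻¹) = 1 := by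
    rw [show h * L.z * h⁻¹ * (h * L.z * h⁻¹) = h * (L.z * L.z) * h⁻¹ by group, zz]; group
  obtain ⟨g, -, hg⟩ := L.R_conj _ a hc hh2 (fun e => L.z_ne (conj_eq_one_iff.1 e)) hne ha h2 h1 hz
  exact isConj_iff.2 ⟨g * h, by rw [← hg]; group⟩

/-- The bad elements of order three. -/
theorem cen_bad {b : H} (hbz : Commute b L.z) (hbu : Commute b L.u) (hb3 : b ^ 3 = 1) (hb1 : b ≠ 1)
    (h18 : Nat.card ↥(L.N ⊓ centralizer ({b} : Set H)) = 18) {σ : H} (hσz : Commute σ L.z) (hσ : σ * σ = 1)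
    (hσu : σ * L.u * σ⁻¹ = L.u⁻¹) (hσb : σ * b * σ⁻¹ = b⁻¹) {g : H} (hg : Commute g b) : Commute g L.z := by
  classical
  haveI : Fact (Nat.Prime 3) := ⟨by norm_num⟩
  set S := L.N ⊓ centralizer ({b} : Set H) with hS
  have huS : L.u ∈ S := ⟨L.mem_N.2 L.u_comm, mem_centralizer_singleton_iff.2 hbu.symm.eq⟩
  have hbS : b ∈ S := ⟨L.mem_N.2 hbz, mem_centralizer_singleton_iff.2 rfl⟩
  set T := closure ({L.u, b} : Set H) with hT
  have hTS : T ≤ S := (closure_le _).2 (by rintro x (rfl | rfl) <;> assumption)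
  have hbo : orderOf b = 3 := orderOf_eq_prime hb3 hb1
  have hbu' : b ∉ zpowers L.u := fun hm => by
    have hcard : zpowers b = zpowers L.u := eq_of_le_of_card_ge (zpowers_le.2 hm)
      (le_of_eq (by rw [Nat.card_zpowers, Nat.card_zpowers, hbo, u_order]))
    have e : centralizer ({b} : Set H) = centralizer ({L.u} : Set H) := by
      rw [← centralizer_closure {b}, ← centralizer_closure {L.u}, ← zpowers_eq_closure, ← zpowers_eq_closure, hcard]
    have := L.card_K
    rw [← e, h18] at this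
    norm_num at this
  have hT9 : 9 ≤ Nat.card T := by
    have h := card_mul_le (A := zpowers L.u) (B := zpowers b) (R := T)
      (zpowers_le.2 (subset_closure (by simp))) (zpowers_le.2 (subset_closure (by simp)))
    have hbot : zpowers L.u ⊓ zpowers b = ⊥ := by
      haveI : Fact (Nat.card (zpowers b)).Prime := ⟨by rw [Nat.card_zpowers, hbo]; norm_num⟩
      rcases (zpowers L.u).subgroupOf (zpowers b) |>.eq_bot_or_eq_top_of_prime_card with e | e
      · rw [eq_bot_iff]
        rintro x ⟨hx, hxb⟩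
        have hm : (⟨x, hxb⟩ : zpowers b) ∈ (zpowers L.u).subgroupOf (zpowers b) := hx
        rw [e, mem_bot] at hm
        exact mem_bot.2 (congrArg Subtype.val hm)
      · exact absurd (show (⟨b, mem_zpowers b⟩ : zpowers b) ∈ (zpowers L.u).subgroupOf (zpowers b) from
          e ▸ mem_top _) hbu'
    rw [hbot, Subgroup.card_bot, Nat.card_zpowers, Nat.card_zpowers, hbo, u_order, mul_one] at h
    exact h
  have hcomm : ∀ x ∈ ({L.u, b} : Set H), ∀ y ∈ ({L.u, b} : Set H), x * y = y * x := by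
    rintro x (rfl | rfl) y (rfl | rfl)
    exacts [rfl, hbu.symm.eq, hbu.eq, rfl]
  have hTinv : ∀ x ∈ T, σ * x * σ⁻¹ = x⁻¹ := by
    intro x hx
    haveI := isMulCommutative_closure hcomm
    induction hx using closure_induction with
    | mem x hx => rcases hx with rfl | rfl <;> assumption
    | one => group
    | mul x y hx hy ihx ihy =>
      have hxy : x * y = y * x :=
        congrArg Subtype.val (mul_comm' (⟨x, hx⟩ : closure ({L.u, b} : Set H)) ⟨y, hy⟩)
      calc σ * (x * y) * σ⁻¹ = (σ * x * σ⁻¹) * (σ * y * σ⁻¹) := by group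
        _ = (x * y)⁻¹ := by rw [ihx, ihy, hxy, mul_inv_rev]
    | inv x hx ih =>
      calc σ * x⁻¹ * σ⁻¹ = (σ * x * σ⁻¹)⁻¹ := by group
        _ = x⁻¹⁻¹ := by rw [ih]
  have hSK : ∀ x ∈ S, Commute x L.u := by
    set R := S ⊓ centralizer ({L.u} : Set H) with hR
    have hzR : L.z ∈ R := ⟨⟨L.mem_N.2 (Commute.refl _), mem_centralizer_singleton_iff.2 hbz.symm.eq⟩,
      mem_centralizer_singleton_iff.2 L.u_comm.symm.eq⟩
    have hTR : T ≤ R := (closure_le _).2 (by
      rintro x (rfl | rfl)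
      · exact ⟨huS, mem_centralizer_singleton_iff.2 rfl⟩
      · exact ⟨hbS, mem_centralizer_singleton_iff.2 hbu.eq⟩)
    have hRd : Nat.card R ∣ 18 := h18 ▸ card_dvd_of_le inf_le_left
    have hR9 : 9 ≤ Nat.card R := hT9.trans (card_le_of_le hTR)
    have hR2 : 2 ∣ Nat.card R := by
      have := orderOf_dvd_natCard R hzR
      rwa [L.z_ord] at this
    have hR18 : Nat.card R = 18 := by
      have := Nat.le_of_dvd (by norm_num) hRd
      interval_cases h : Nat.card R <;> omega
    have hRS : R = S := eq_of_le_of_card_ge inf_le_left (by rw [h18, hR18])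
    intro x hx
    exact mem_centralizer_singleton_iff.1 (show x ∈ centralizer ({L.u} : Set H) from (hRS.symm ▸ hx : x ∈ R).2)
  have hSinv : ∀ x ∈ S, x * x = 1 → x = 1 ∨ x = L.z := fun x hx h2 =>
    L.invol_K x (L.mem_N.1 hx.1) (hSK x hx) h2
  have hfix : ∀ x ∈ S, Odd (orderOf x) → Commute x σ → x = 1 := by
    intro x hx ho hxσ
    by_contra hx1
    have hd : orderOf x ∣ 18 := h18 ▸ orderOf_dvd_natCard S hx
    have h9 : orderOf x ∣ 9 := (Nat.coprime_two_right.2 ho).dvd_of_dvd_mul_left (show orderOf x ∣ 2 * 9 from hd)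
    have hx3 : x ^ 3 = 1 := L.exp3 x (L.mem_N.1 hx.1) (orderOf_dvd_iff_pow_eq_one.1 h9)
    have hxo : orderOf x = 3 := orderOf_eq_prime hx3 hx1
    by_cases hxT : x ∈ T
    · have h2 := hTinv x hxT
      rw [← hxσ.eq, mul_inv_cancel_right] at h2
      have h4 : x ^ 2 = 1 := by rw [pow_two]; nth_rw 2 [h2]; exact mul_inv_cancel x
      have h5 : x = 1 := by
        calc x = x ^ 3 * (x ^ 2)⁻¹ := by group
          _ = 1 := by rw [hx3, h4, inv_one, one_mul]
      exact hx1 h5
    · have h := card_mul_le (A := zpowers x) (B := T) (R := S) (zpowers_le.2 hx) hTS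
      have hbot : zpowers x ⊓ T = ⊥ := by
        haveI : Fact (Nat.card (zpowers x)).Prime := ⟨by rw [Nat.card_zpowers, hxo]; norm_num⟩
        rcases T.subgroupOf (zpowers x) |>.eq_bot_or_eq_top_of_prime_card with e | e
        · rw [eq_bot_iff]
          rintro y ⟨hy, hyT⟩
          have hm : (⟨y, hy⟩ : zpowers x) ∈ T.subgroupOf (zpowers x) := hyT
          rw [e, mem_bot] at hm
          exact mem_bot.2 (congrArg Subtype.val hm)
        · exact absurd (show (⟨x, mem_zpowers x⟩ : zpowers x) ∈ T.subgroupOf (zpowers x) from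
            e ▸ mem_top _) hxT
      rw [hbot, Subgroup.card_bot, Nat.card_zpowers, hxo, h18] at h
      omega
  -- the odd core
  set O := oddCen b with hO
  have hσ1 : σ ≠ 1 := fun e => by
    rw [e, one_mul, inv_one, mul_one] at hσu
    have : L.u ^ 2 = 1 := by rw [pow_two]; nth_rw 2 [hσu]; exact mul_inv_cancel _
    have := orderOf_dvd_of_pow_eq_one this
    rw [u_order] at this
    norm_num at this
  have hσK : ¬ Commute σ L.u := fun hc => by
    rcases L.invol_K σ hσz hc hσ with e | e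
    · exact hσ1 e
    · rw [hc.eq, mul_inv_cancel_right] at hσu
      have : L.u ^ 2 = 1 := by rw [pow_two]; nth_rw 2 [hσu]; exact mul_inv_cancel _
      have := orderOf_dvd_of_pow_eq_one this
      rw [u_order] at this
      norm_num at this
  have hzσ : L.z * σ ≠ 1 := fun e => hσK (by
    rw [show σ = L.z from ((inv_eq_of_mul_eq_one_right e).symm.trans (inv_eq_of_mul_eq_one_right L.zz))]
    exact L.u_comm.symm)
  have hzσ2 : L.z * σ * (L.z * σ) = 1 := by
    calc L.z * σ * (L.z * σ) = L.z * (σ * L.z) * σ := by group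
      _ = L.z * L.z * (σ * σ) := by rw [hσz.eq]; group
      _ = 1 := by rw [zz, hσ, mul_one]
  have hnz : ∀ k ∈ O, L.z * k * L.z⁻¹ ∈ O := fun k hk => oddCen_normal hbz.symm hk
  have hnσ : ∀ k ∈ O, σ * k * σ⁻¹ ∈ O := fun k hk => oddCen_conj_inv hσb hk
  have hone : ∀ k ∈ O, Commute k L.z → Commute k σ → k = 1 := fun k hk hkz hkσ =>
    hfix k ⟨L.mem_N.2 hkz, oddCen_le b hk⟩
      ((odd_oddCen b).of_dvd_nat (orderOf_dvd_natCard O hk)) hkσ
  have hpart : ∀ {w : H}, IsConj L.z w → ∃ j, Nat.card ↥(O ⊓ centralizer ({w} : Set H)) = 3 ^ j := by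
    intro w hw
    have hd : Nat.card ↥(O ⊓ centralizer ({w} : Set H)) ∣ 144 := by
      rw [← L.card_N, card_cen_conj hw]
      exact card_dvd_of_le inf_le_right
    obtain ⟨j, -, hj⟩ := (Nat.dvd_prime_pow (by norm_num : Nat.Prime 3)).1
      (show _ ∣ 3 ^ 2 from nine_of_odd_dvd ((odd_oddCen b).of_dvd_nat (card_dvd_of_le inf_le_left)) hd)
    exact ⟨j, hj⟩
  obtain ⟨i, hi⟩ := hpart (IsConj.refl L.z)
  obtain ⟨j, hj⟩ := hpart (L.R_fused hσz hσ hσ1)
  obtain ⟨k, hk⟩ := hpart (L.R_fused ((Commute.refl L.z).mul_left hσz) hzσ2 hzσ)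
  have hOc : Nat.card O = 3 ^ (i + (j + k)) := by
    rw [card_eq_fixed_mul O (odd_oddCen b) L.zz hσ hσz.symm.eq hnz hnσ hone, hi, hj, hk, pow_add, pow_add]
  have hOu : IsPGroup 3 (zpowers L.u ⊔ O : Subgroup H) := by
    refine IsPGroup.to_sup_of_normal_right' (IsPGroup.of_card (n := 1) ?_) (IsPGroup.of_card hOc) ?_
    · rw [Nat.card_zpowers, u_order, pow_one]
    · exact zpowers_le.2 (mem_normalizer_fintype fun y hy => oddCen_normal hbu.symm hy)
  have hON : O ≤ L.N := le_sup_right.trans (L.three_le hOu (mem_sup_left (mem_zpowers _)))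
  -- the involution is isolated
  set C := centralizer ({b} : Set H) with hC
  have hzC : L.z ∈ C := mem_centralizer_singleton_iff.2 hbz.symm.eq
  have hiso : Cfsg.IsIsolated (⟨L.z, hzC⟩ : C) := by
    intro m hm
    set v := ((m * ⟨L.z, hzC⟩ * m⁻¹ : C) : H) with hv
    have hv' : v = (m : H) * L.z * (m : H)⁻¹ := rfl
    rcases hSinv v ⟨L.mem_N.2 (congrArg Subtype.val hm.eq).symm, (m * ⟨L.z, hzC⟩ * m⁻¹ : C).2⟩ (by
      rw [hv', show (m : H) * L.z * (m : H)⁻¹ * ((m : H) * L.z * (m : H)⁻¹) = (m : H) * (L.z * L.z) * (m : H)⁻¹ by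
        group, zz]
      group) with e | e
    · exact absurd (conj_eq_one_iff.1 (hv' ▸ e)) L.z_ne
    · exact Subtype.ext e
  have hy := BrauerSuzuki.zStar C ⟨L.z, hzC⟩ (by rw [Subgroup.orderOf_mk, L.z_ord]) hiso
    ⟨g, mem_centralizer_singleton_iff.2 hg.eq⟩
  have hyO : g * L.z * g⁻¹ * L.z⁻¹ ∈ O := ⟨_, hy, rfl⟩
  have hwN : g * L.z * g⁻¹ ∈ S := by
    refine ⟨?_, mem_centralizer_singleton_iff.2 ((hg.mul_left hbz.symm).mul_left hg.inv_left).eq⟩
    have := mul_mem (hON hyO) (L.mem_N.2 (Commute.refl L.z))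
    rwa [inv_mul_cancel_right] at this
  rcases hSinv _ hwN (by
    rw [show g * L.z * g⁻¹ * (g * L.z * g⁻¹) = g * (L.z * L.z) * g⁻¹ by group, zz]
    group) with e | e
  · exact absurd (conj_eq_one_iff.1 e) L.z_ne
  · exact mul_inv_eq_iff_eq_mul.1 e

/-- **The centraliser of an element of order three of the centraliser of the involution lies in it.** -/
theorem cen_three {b : H} (hbz : Commute b L.z) (hb3 : b ^ 3 = 1) (hb1 : b ≠ 1) {g : H} (hg : Commute g b) :
    Commute g L.z := by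
  have hbu := L.odd_mem_K hbz (by decide : Odd 3) hb3
  rcases L.three b hbz hbu hb3 hb1 with hs | ⟨h18, σ, hσz, hσ, hσu, hσb⟩
  · refine hs g ?_
    rw [hg.eq, mul_inv_cancel_right]
    exact hbz
  · exact L.cen_bad hbz hbu hb3 hb1 h18 hσz hσ hσu hσb hg

/-- The elements of the common centraliser off the kernel of the character form a TI set. -/
theorem ti {x y g : H} (hxz : Commute x L.z) (hxu : Commute x L.u) (hx : L.ψ x ≠ 0) (hyz : Commute y L.z)
    (hyu : Commute y L.u) (hy : L.ψ y ≠ 0) (hg : g * x * g⁻¹ = y) : Commute g L.z := by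
  have hcen : ∀ {a : H}, Commute a L.z → Commute a L.u → L.ψ a ≠ 0 → ∀ {k : H}, Commute k a → Commute k L.z := by
    intro a haz hau ha k hk
    have h9 : (a ^ 8) ^ 9 = 1 := by
      have := orderOf_dvd_natCard (L.N ⊓ centralizer ({L.u} : Set H))
        ⟨L.mem_N.2 haz, mem_centralizer_singleton_iff.2 hau.eq⟩
      rw [← pow_mul]
      rw [L.card_K] at this
      exact orderOf_dvd_iff_pow_eq_one.1 (this.trans (by norm_num))
    have h3 := L.exp3 _ (haz.pow_left 8) h9
    refine L.cen_three (haz.pow_left 8) h3 ?_ (hk.pow_right 8)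
    intro e
    have h := L.ψ_pow haz hau 8
    rw [e, ψ_one] at h
    refine ha ?_
    revert h
    generalize L.ψ a = t
    revert t
    decide
  have hw : Commute (g * L.z * g⁻¹) y := by
    rw [← hg]
    simpa [MulAut.conj_apply, mul_assoc] using hxz.symm.map (MulAut.conj g).toMonoidHom
  have hwz := hcen hyz hyu hy hw
  have hwu : Commute (g * L.z * g⁻¹) L.u := by
    by_contra hn
    have h := L.ψ_anti _ y hwz hn hyz hyu
    rw [hw.eq, mul_inv_cancel_right] at h
    refine hy ?_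
    revert h
    generalize L.ψ y = t
    revert t
    decide
  rcases L.invol_K _ hwz hwu (by
    rw [show g * L.z * g⁻¹ * (g * L.z * g⁻¹) = g * (L.z * L.z) * g⁻¹ by group, zz]
    group) with e | e
  · exact absurd (conj_eq_one_iff.1 e) L.z_ne
  · exact mul_inv_eq_iff_eq_mul.1 e

/-- The elements of order three are conjugate into the centraliser of the involution and the Sylow
three-subgroups have order nine. -/
theorem sylow_three : (∀ {x : H}, x ^ 9 = 1 → ∃ g, Commute (g * x * g⁻¹) L.z) ∧ ¬ 27 ∣ Nat.card H := by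
  haveI : Fact (Nat.Prime 3) := ⟨by norm_num⟩
  obtain ⟨P, hP⟩ := (IsPGroup.of_card (G := zpowers L.u) (p := 3) (n := 1)
    (by rw [Nat.card_zpowers, u_order, pow_one])).exists_le_sylow
  have hPN : (P : Subgroup H) ≤ L.N := L.three_le P.isPGroup' (hP (mem_zpowers _))
  refine ⟨fun {x} hx => ?_, fun h27 => ?_⟩
  · obtain ⟨Q, hQ⟩ := (show IsPGroup 3 (zpowers x) from fun y => by
      obtain ⟨n, hn⟩ := mem_zpowers_iff.1 y.2
      refine ⟨2, Subtype.ext ?_⟩
      rw [SubmonoidClass.coe_pow, OneMemClass.coe_one, ← hn, ← zpow_natCast, ← zpow_mul, mul_comm, zpow_mul,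
        zpow_natCast, show x ^ 3 ^ 2 = 1 from hx, one_zpow]).exists_le_sylow
    obtain ⟨g, rfl⟩ := MulAction.exists_smul_eq H P Q
    refine ⟨g⁻¹, L.mem_N.1 (hPN ?_)⟩
    have h1 := hQ (mem_zpowers x)
    rw [Sylow.coe_subgroup_smul, mem_pointwise_smul_iff_inv_smul_mem, ← map_inv, MulAut.smul_def,
      MulAut.conj_apply] at h1
    exact h1
  · have h1 : 3 ^ 3 ∣ Nat.card P := by
      rw [Sylow.card_eq_multiplicity]
      exact pow_dvd_pow 3 (((Nat.prime_three.pow_dvd_iff_le_factorization Nat.card_pos.ne').1 h27))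
    have h2 : 3 ^ 3 ∣ 144 := L.card_N ▸ h1.trans (card_dvd_of_le hPN)
    norm_num at h2

/-- There is no element of order nine. -/
theorem no_nine (L : Loc H) (x : H) : orderOf x ≠ 9 := fun h => by
  have h9 : x ^ 9 = 1 := by rw [← h, pow_orderOf_eq_one]
  obtain ⟨g, hg⟩ := L.sylow_three.1 h9
  have h3 := L.exp3 _ hg (by rw [conj_pow, h9]; group)
  rw [conj_pow, conj_eq_one_iff] at h3
  have := orderOf_dvd_of_pow_eq_one h3
  rw [h] at this
  norm_num at this

/-- The centraliser of an element of order three has order dividing 144. -/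
theorem cen_three_dvd (L : Loc H) {x : H} (hx : orderOf x = 3) : Nat.card (centralizer ({x} : Set H)) ∣ 144 := by
  have h3 : x ^ 3 = 1 := by rw [← hx, pow_orderOf_eq_one]
  obtain ⟨g, hg⟩ := L.sylow_three.1 (x := x) (by rw [show 9 = 3 * 3 from rfl, pow_mul, h3, one_pow])
  have hb1 : g * x * g⁻¹ ≠ 1 := fun e => by
    rw [conj_eq_one_iff] at e
    rw [e, orderOf_one] at hx
    norm_num at hx
  rw [card_cen_conj (isConj_iff.2 ⟨g, rfl⟩ : IsConj x (g * x * g⁻¹)), ← L.card_N]
  exact card_dvd_of_le fun k hk => L.mem_N.2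
    (L.cen_three hg (by rw [conj_pow, h3]; group) hb1 (mem_centralizer_singleton_iff.1 hk))

/-- The Sylow two-subgroups have order sixteen and there is one class of involutions. -/
theorem sylow_two : (∀ {t : H}, t * t = 1 → t ≠ 1 → IsConj L.z t) ∧ ¬ 32 ∣ Nat.card H := by
  classical
  haveI : Fact (Nat.Prime 2) := ⟨Nat.prime_two⟩
  have h16 : 2 ^ 4 ∣ Nat.card L.N := by rw [L.card_N]; norm_num
  obtain ⟨T₀, hT₀⟩ := Sylow.exists_subgroup_card_pow_prime 2 h16
  set T := T₀.map L.N.subtype with hT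
  have hTc : Nat.card T = 2 ^ 4 := by rw [hT, card_map_of_injective L.N.subtype_injective, hT₀]
  have hTN : T ≤ L.N := map_subtype_le _
  obtain ⟨P, hP⟩ := (IsPGroup.of_card hTc).exists_le_sylow
  haveI : Nontrivial P := by
    have := (card_le_of_le hP)
    exact Finite.one_lt_card_iff_nontrivial.1 (by rw [hTc] at this; omega)
  obtain ⟨c, hc, hc1⟩ := (nontrivial_iff_exists_ne_one _).1 P.isPGroup'.center_nontrivial
  obtain ⟨k, hk⟩ := P.isPGroup' c
  have ho : ∃ m, orderOf c = 2 ^ (m + 1) := by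
    obtain ⟨j, -, hj⟩ := (Nat.dvd_prime_pow Nat.prime_two).1 (orderOf_dvd_of_pow_eq_one hk)
    refine ⟨j - 1, ?_⟩
    cases j with
    | zero => exact absurd (orderOf_eq_one_iff.1 (by rw [hj, pow_zero])) hc1
    | succ j => rw [hj, Nat.add_sub_cancel]
  obtain ⟨m, hm⟩ := ho
  set t : P := c ^ 2 ^ m with ht
  have hto : orderOf t = 2 := by
    rw [ht, orderOf_pow, hm, pow_succ, Nat.gcd_mul_right_left, Nat.mul_div_cancel_left _ (pow_pos two_pos m)]
  have htc : ∀ q ∈ (P : Subgroup H), Commute q (t : H) := fun q hq =>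
    congrArg Subtype.val (Subgroup.mem_center_iff.1 (pow_mem hc (2 ^ m)) ⟨q, hq⟩)
  have ht2 : (t : H) * t = 1 := by
    have h := pow_orderOf_eq_one t
    rw [hto, pow_two] at h
    exact congrArg Subtype.val h
  have ht1 : (t : H) ≠ 1 := fun e => by
    rw [show t = 1 from Subtype.ext e, orderOf_one] at hto
    norm_num at hto
  have hTz : ∃ z' ∈ T, z' = L.z := by
    by_contra hn
    have hlt : L.z ∉ T := fun h => hn ⟨_, h, rfl⟩
    have hsup : IsPGroup 2 (zpowers L.z ⊔ T : Subgroup H) := by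
      refine IsPGroup.to_sup_of_normal_left' (IsPGroup.of_card (n := 1) ?_) (IsPGroup.of_card hTc) ?_
      · rw [Nat.card_zpowers, L.z_ord, pow_one]
      · intro y hy
        refine mem_normalizer_fintype fun x hx => ?_
        obtain ⟨n, rfl⟩ := mem_zpowers_iff.1 hx
        rw [((show Commute y L.z from L.mem_N.1 (hTN hy)).zpow_right n).eq, mul_inv_cancel_right]
        exact zpow_mem (mem_zpowers _) n
    obtain ⟨n, hn'⟩ := IsPGroup.iff_card.1 hsup
    have hle : zpowers L.z ⊔ T ≤ L.N := sup_le (zpowers_le.2 (L.mem_N.2 (Commute.refl _))) hTN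
    have hd := card_dvd_of_le hle
    rw [hn', L.card_N] at hd
    have hn4 : n ≤ 4 := by
      by_contra h
      have : 2 ^ 5 ∣ 144 := (pow_dvd_pow 2 (by omega)).trans hd
      norm_num at this
    have hge := card_le_of_le (le_sup_right : T ≤ zpowers L.z ⊔ T)
    have heq : T = zpowers L.z ⊔ T := eq_of_le_of_card_ge le_sup_right (by
      rw [hn', hTc]; exact Nat.pow_le_pow_right two_pos hn4)
    exact hlt (heq ▸ mem_sup_left (mem_zpowers _))
  obtain ⟨z', hz', rfl⟩ := hTz
  have htz : Commute (t : H) L.z := (htc _ (hP hz')).symm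
  have htzeq : (t : H) = L.z := by
    by_contra hne
    let f : (L.N ⧸ T.subgroupOf L.N) → {a : H // Commute a L.z ∧ a * a = 1 ∧ a ≠ 1 ∧ a ≠ L.z} :=
      Quotient.lift (fun q : L.N => ⟨(q : H) * t * (q : H)⁻¹,
        ((L.mem_N.1 q.2).mul_left htz).mul_left (L.mem_N.1 q.2).inv_left,
        by rw [show (q : H) * t * (q : H)⁻¹ * ((q : H) * t * (q : H)⁻¹) = (q : H) * (t * t) * (q : H)⁻¹ by group,
          ht2]; group,
        fun e => ht1 (conj_eq_one_iff.1 e),
        fun e => hne (by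
          calc (t : H) = (q : H)⁻¹ * ((q : H) * t * (q : H)⁻¹) * q := by group
            _ = (q : H)⁻¹ * (L.z * q) := by rw [e, mul_assoc]
            _ = L.z := by rw [← (L.mem_N.1 q.2).eq]; group)⟩)
        fun a b hab => Subtype.ext (by
          have hc' := htc _ (hP (QuotientGroup.leftRel_apply.1 hab : a⁻¹ * b ∈ T.subgroupOf L.N))
          show (a : H) * t * (a : H)⁻¹ = b * t * (b : H)⁻¹
          calc (a : H) * t * (a : H)⁻¹ = (a : H) * (t * ((a⁻¹ * b : L.N) : H)) * ((a⁻¹ * b : L.N) : H)⁻¹ * (a : H)⁻¹ := by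
                group
            _ = (a : H) * (((a⁻¹ * b : L.N) : H) * t) * ((a⁻¹ * b : L.N) : H)⁻¹ * (a : H)⁻¹ := by rw [show (t : H) * ((a⁻¹ * b : L.N) : H) = ((a⁻¹ * b : L.N) : H) * t from hc'.eq.symm]
            _ = _ := by rw [Subgroup.coe_mul, InvMemClass.coe_inv]; group)
    have hsurj : Function.Surjective f := by
      rintro ⟨a, ha, ha2, ha1, haz⟩
      obtain ⟨q, hq, e⟩ := L.R_conj t a htz ht2 ht1 hne ha ha2 ha1 haz
      exact ⟨Quotient.mk _ ⟨q, L.mem_N.2 hq⟩, Subtype.ext e⟩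
    have h36 := Nat.card_le_card_of_surjective f hsurj
    rw [L.R_card] at h36
    have h144 := card_eq_card_quotient_mul_card_subgroup (T.subgroupOf L.N)
    rw [L.card_N, show Nat.card (T.subgroupOf L.N) = 2 ^ 4 by
      rw [← hTc]; exact Nat.card_congr (subgroupOfEquivOfLe hTN).toEquiv] at h144
    omega
  have hPN : (P : Subgroup H) ≤ L.N := fun q hq => L.mem_N.2 (htzeq ▸ htc q hq)
  refine ⟨fun {s} hs hs1 => ?_, fun h32 => ?_⟩
  · obtain ⟨Q, hQ⟩ := (IsPGroup.of_card (G := zpowers s) (p := 2) (n := 1) (by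
      rw [Nat.card_zpowers, pow_one, orderOf_eq_prime (by rw [pow_two, hs]) hs1])).exists_le_sylow
    obtain ⟨g, rfl⟩ := MulAction.exists_smul_eq H P Q
    have h1 := hQ (mem_zpowers s)
    rw [Sylow.coe_subgroup_smul, mem_pointwise_smul_iff_inv_smul_mem, ← map_inv, MulAut.smul_def,
      MulAut.conj_apply] at h1
    refine (L.R_fused (L.mem_N.1 (hPN h1)) ?_ fun e => hs1 (conj_eq_one_iff.1 e)).trans (isConj_iff.2 ⟨g, ?_⟩)
    · rw [show g⁻¹ * s * g⁻¹⁻¹ * (g⁻¹ * s * g⁻¹⁻¹) = g⁻¹ * (s * s) * g⁻¹⁻¹ by group, hs]; group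
    · group
  · have h1 : 2 ^ 5 ∣ Nat.card P := by
      rw [Sylow.card_eq_multiplicity]
      exact pow_dvd_pow 2 (((Nat.prime_two.pow_dvd_iff_le_factorization Nat.card_pos.ne').1 h32))
    have h2 : 2 ^ 5 ∣ 144 := L.card_N ▸ h1.trans (card_dvd_of_le hPN)
    norm_num at h2

/-- The centraliser of an involution has order 144. -/
theorem cen_invol (L : Loc H) {t : H} (ht : orderOf t = 2) : Nat.card (centralizer ({t} : Set H)) = 144 := by
  rw [← L.card_N]
  refine (card_cen_conj (L.sylow_two.1 ?_ ?_)).symm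
  · rw [← pow_two, ← ht, pow_orderOf_eq_one]
  · intro e
    rw [e, orderOf_one] at ht
    norm_num at ht

end Loc

end Cfsg.Agent.DoubleCoverDeg
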