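import Mathlib.GroupTheory.Perm.Cycle.Type
import Mathlib.Data.ZMod.Basic

/-!
S1645, degree ten: the even permutations commuting with two disjoint three-cycles of ten points.
-/

set_option autoImplicit false
set_option maxHeartbeats 1000000
set_option synthInstance.maxHeartbeats 200000



namespace Cfsg.Agent.DoubleCoverDeg.TenModel

open Equiv

/-- The first three-cycle. -/
def ca : Perm (Fin 10) := swap 0 1 * swap 1 2

/-- The second three-cycle. -/
def cb : Perm (Fin 10) := swap 3 4 * swap 4 5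

/-- The two three-cycles. -/
def ct : Perm (Fin 10) := ca * cb

/-- The exchange of the two supports. -/
def cw : Perm (Fin 10) := swap 0 3 * swap 1 4 * swap 2 5

/-- The part moving the six points. -/
def six (c : Fin 2 × Fin 3 × Fin 3) : Perm (Fin 10) := cw ^ (c.1 : ℕ) * ca ^ (c.2.1 : ℕ) * cb ^ (c.2.2 : ℕ)

/-- The part moving the four points. -/
def four (c : Fin 4 × Fin 3 × Fin 2) : Perm (Fin 10) :=
  swap 6 ⟨6 + c.1, by omega⟩ * swap 7 ⟨7 + c.2.1, by omega⟩ * swap 8 ⟨8 + c.2.2, by omega⟩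

/-- The codes. -/
abbrev Code : Type := (Fin 2 × Fin 3 × Fin 3) × (Fin 4 × Fin 3 × Fin 2)

/-- The permutation of a code. -/
def perm (c : Code) : Perm (Fin 10) := six c.1 * four c.2

/-- The parity of a code. -/
def Even' (c : Code) : Prop :=
  ((c.1.1 : ℕ) + (if c.2.1 = 0 then 0 else 1) + (if c.2.2.1 = 0 then 0 else 1) + (if c.2.2.2 = 0 then 0 else 1)) % 2 = 0

instance (c : Code) : Decidable (Even' c) := by unfold Even'; infer_instance

/-- The six-point part on numbers. -/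
def sixN (c : Fin 2 × Fin 3 × Fin 3) (i : ℕ) : ℕ :=
  if i < 3 then 3 * (c.1 : ℕ) + (i + c.2.1) % 3
  else if i < 6 then 3 * (1 - (c.1 : ℕ)) + (i - 3 + c.2.2) % 3 else i

/-- A transposition on numbers. -/
def swapN (a b i : ℕ) : ℕ := if i = a then b else if i = b then a else i

/-- The four-point part on numbers. -/
def fourN (c : Fin 4 × Fin 3 × Fin 2) (i : ℕ) : ℕ :=
  swapN 6 (6 + c.1) (swapN 7 (7 + c.2.1) (swapN 8 (8 + c.2.2) i))

/-- The permutation of a code on numbers. -/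
def permN (c : Code) (i : ℕ) : ℕ := sixN c.1 (fourN c.2 i)

/-- The powers of the two cycles on numbers. -/
def ctN (k i : ℕ) : ℕ := if i < 3 then (i + k) % 3 else if i < 6 then 3 + (i - 3 + k) % 3 else i

theorem six_eq : ∀ c, ∀ i : Fin 10, (six c i : ℕ) = sixN c i := by decide +kernel

theorem four_eq : ∀ c, ∀ i : Fin 10, (four c i : ℕ) = fourN c i := by decide +kernel

theorem perm_eq (c : Code) (i : Fin 10) : (perm c i : ℕ) = permN c i := by
  rw [perm, Perm.mul_apply, six_eq, four_eq, permN]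

theorem ct_eq : ∀ k : Fin 3, ∀ i : Fin 10, (((ct ^ (k : ℕ)) i : Fin 10) : ℕ) = ctN k i := by decide +kernel

theorem permN_lt (c : Code) (i : ℕ) (hi : i < 10) : permN c i < 10 := by
  rw [show i = ((⟨i, hi⟩ : Fin 10) : ℕ) from rfl, ← perm_eq]
  exact Fin.is_lt _

theorem sign_six : ∀ c, Perm.sign (six c) = (-1) ^ (c.1 : ℕ) := by
  rintro ⟨w, a, b⟩
  have h : ∀ x y : Fin 10, x ≠ y → Perm.sign (swap x y) = -1 := fun x y h => Perm.sign_swap h
  simp only [six, cw, ca, cb, map_mul, map_pow, h _ _ (show (0 : Fin 10) ≠ 3 by decide),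
    h _ _ (show (1 : Fin 10) ≠ 4 by decide), h _ _ (show (2 : Fin 10) ≠ 5 by decide),
    h _ _ (show (0 : Fin 10) ≠ 1 by decide), h _ _ (show (1 : Fin 10) ≠ 2 by decide),
    h _ _ (show (3 : Fin 10) ≠ 4 by decide), h _ _ (show (4 : Fin 10) ≠ 5 by decide)]
  simp

theorem sign_four : ∀ c, Perm.sign (four c) =
    (-1) ^ ((if c.1 = 0 then 0 else 1) + (if c.2.1 = 0 then 0 else 1) + (if c.2.2 = 0 then 0 else 1) : ℕ) := by
  rintro ⟨i, j, k⟩
  have h : ∀ (x : Fin 10) (l : ℕ) (hl : (x : ℕ) + l < 10),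
      Perm.sign (swap x ⟨(x : ℕ) + l, hl⟩) = (-1) ^ (if l = 0 then 0 else 1 : ℕ) := by
    intro x l hl
    split_ifs with h0
    · subst h0; simp
    · rw [Perm.sign_swap (by intro e; have := congrArg Fin.val e; simp at this; omega), pow_one]
  simp only [four, map_mul]
  rw [show Perm.sign (swap (6 : Fin 10) ⟨6 + (i : ℕ), _⟩) = _ from h 6 i _,
    show Perm.sign (swap (7 : Fin 10) ⟨7 + (j : ℕ), _⟩) = _ from h 7 j _,
    show Perm.sign (swap (8 : Fin 10) ⟨8 + (k : ℕ), _⟩) = _ from h 8 k _, ← pow_add, ← pow_add]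
  simp only [Fin.ext_iff, Fin.val_zero]

theorem sign_perm (c : Code) : Perm.sign (perm c) = 1 ↔ Even' c := by
  rw [perm, map_mul, sign_six, sign_four, ← pow_add, neg_one_pow_eq_one_iff_even (by decide), Nat.even_iff, Even']
  simp only [Nat.add_assoc]

theorem perm_comm (c : Code) (i : Fin 10) : perm c (ct i) = ct (perm c i) := by
  have key : ∀ c : Code, ∀ i < 10, permN c (ctN 1 i) = ctN 1 (permN c i) := by decide +kernel
  have h1 : ∀ j : Fin 10, (ct j : ℕ) = ctN 1 j := fun j => by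
    have h := ct_eq 1 j
    rwa [show ((1 : Fin 3) : ℕ) = 1 from rfl, pow_one] at h
  refine Fin.ext ?_
  rw [perm_eq, h1, h1, perm_eq]
  exact key c i i.2

theorem six_cases : ∀ x y : Fin 10, (x : ℕ) < 6 → (y : ℕ) < 6 → y ≠ x → y ≠ ct x → y ≠ ct (ct x) →
    ∃ c, six c 0 = x ∧ six c 3 = y := by decide +kernel

theorem four_cases : ∀ x y w : Fin 4, x ≠ y → x ≠ w → y ≠ w →
    ∃ c, four c 6 = ⟨6 + x, by omega⟩ ∧ four c 7 = ⟨6 + y, by omega⟩ ∧ four c 8 = ⟨6 + w, by omega⟩ := by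
  decide +kernel

theorem perm_six (c : Code) : perm c 0 = six c.1 0 ∧ perm c 3 = six c.1 3 ∧ perm c 6 = four c.2 6 ∧
    perm c 7 = four c.2 7 ∧ perm c 8 = four c.2 8 ∧ 6 ≤ (perm c 9 : ℕ) := by
  have key : ∀ c : Code, permN c 0 = sixN c.1 0 ∧ permN c 3 = sixN c.1 3 ∧ permN c 6 = fourN c.2 6 ∧
      permN c 7 = fourN c.2 7 ∧ permN c 8 = fourN c.2 8 ∧ 6 ≤ permN c 9 := by decide +kernel
  obtain ⟨h0, h3, h6, h7, h8, h9⟩ := key c
  refine ⟨Fin.ext ?_, Fin.ext ?_, Fin.ext ?_, Fin.ext ?_, Fin.ext ?_, ?_⟩ <;>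
    simp only [perm_eq, six_eq, four_eq] <;> assumption

theorem ct_facts : (∀ i : Fin 10, ct i = i ↔ 6 ≤ (i : ℕ)) ∧ ct 0 = 1 ∧ ct 1 = 2 ∧ ct 2 = 0 ∧ ct 3 = 4 ∧ ct 4 = 5 ∧
    ct 5 = 3 := by decide +kernel

/-- **Every permutation commuting with the two cycles has a code.** -/
theorem exists_code {σ : Perm (Fin 10)} (h : Commute σ ct) : ∃ c, perm c = σ := by
  have hs : ∀ i, σ (ct i) = ct (σ i) := fun i => DFunLike.congr_fun h.eq i
  obtain ⟨hfix, t0, t1, t2, t3, t4, t5⟩ := ct_facts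
  have hout : ∀ i : Fin 10, 6 ≤ (σ i : ℕ) ↔ 6 ≤ (i : ℕ) := fun i => by
    rw [← hfix, ← hfix, ← hs, σ.injective.eq_iff]
  have h6 : ∀ i : Fin 10, 6 ≤ (i : ℕ) → ∃ x : Fin 4, σ i = ⟨6 + x, by omega⟩ := fun i hi =>
    ⟨⟨(σ i : ℕ) - 6, by omega⟩, Fin.ext (by have := (hout i).2 hi; simp only; omega)⟩
  obtain ⟨c1, e0, e3⟩ := six_cases (σ 0) (σ 3) (Nat.lt_of_not_le fun e => absurd ((hout 0).1 e) (by decide))
    (Nat.lt_of_not_le fun e => absurd ((hout 3).1 e) (by decide)) (by simp)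
    (by rw [← hs, t0]; simp) (by rw [← hs, ← hs, t0, t1]; simp)
  obtain ⟨x, ex⟩ := h6 6 (by decide)
  obtain ⟨y, ey⟩ := h6 7 (by decide)
  obtain ⟨w, ew⟩ := h6 8 (by decide)
  obtain ⟨c2, f6, f7, f8⟩ := four_cases x y w
    (fun e => absurd (σ.injective (ex.trans (e ▸ ey.symm))) (by decide))
    (fun e => absurd (σ.injective (ex.trans (e ▸ ew.symm))) (by decide))
    (fun e => absurd (σ.injective (ey.trans (e ▸ ew.symm))) (by decide))
  refine ⟨(c1, c2), ?_⟩
  obtain ⟨p0, p3, p6, p7, p8, p9⟩ := perm_six (c1, c2)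
  have q := perm_comm (c1, c2)
  have g0 : perm (c1, c2) 0 = σ 0 := p0.trans e0
  have g3 : perm (c1, c2) 3 = σ 3 := p3.trans e3
  have g1 : perm (c1, c2) 1 = σ 1 := by rw [← t0, q, hs, g0]
  have g2 : perm (c1, c2) 2 = σ 2 := by rw [← t1, q, hs, g1]
  have g4 : perm (c1, c2) 4 = σ 4 := by rw [← t3, q, hs, g3]
  have g5 : perm (c1, c2) 5 = σ 5 := by rw [← t4, q, hs, g4]
  have g6 : perm (c1, c2) 6 = σ 6 := by rw [p6, f6, ex]
  have g7 : perm (c1, c2) 7 = σ 7 := by rw [p7, f7, ey]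
  have g8 : perm (c1, c2) 8 = σ 8 := by rw [p8, f8, ew]
  have g9 : perm (c1, c2) 9 = σ 9 := by
    have n6 : perm (c1, c2) 9 ≠ perm (c1, c2) 6 := fun e => absurd ((perm (c1, c2)).injective e) (by decide)
    have n7 : perm (c1, c2) 9 ≠ perm (c1, c2) 7 := fun e => absurd ((perm (c1, c2)).injective e) (by decide)
    have n8 : perm (c1, c2) 9 ≠ perm (c1, c2) 8 := fun e => absurd ((perm (c1, c2)).injective e) (by decide)
    have m6 : σ 9 ≠ σ 6 := fun e => absurd (σ.injective e) (by decide)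
    have m7 : σ 9 ≠ σ 7 := fun e => absurd (σ.injective e) (by decide)
    have m8 : σ 9 ≠ σ 8 := fun e => absurd (σ.injective e) (by decide)
    have h9 := (hout 9).2 (by decide)
    rw [g6] at n6
    rw [g7] at n7
    rw [g8] at n8
    have a6 := (hout 6).2 (by decide)
    have a7 := (hout 7).2 (by decide)
    have a8 := (hout 8).2 (by decide)
    have d67 : σ 6 ≠ σ 7 := by simp
    have d68 : σ 6 ≠ σ 8 := by simp
    have d78 : σ 7 ≠ σ 8 := by simp
    simp only [← ne_eq, Fin.ext_iff] at n6 n7 n8 m6 m7 m8 d67 d68 d78 ⊢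
    omega
  refine Equiv.ext fun i => ?_
  fin_cases i <;> assumption

/-- The character on the six points. -/
def chi (σ : Perm (Fin 10)) : ZMod 3 := ((σ 0 : ℕ) : ZMod 3) - ((σ 3 : ℕ) : ZMod 3)

theorem perm_low (c : Code) (i : Fin 10) (hi : (i : ℕ) < 6) : perm c i = six c.1 i := by
  have key : ∀ c : Code, ∀ i < 6, permN c i = sixN c.1 i := by decide +kernel
  exact Fin.ext (by rw [perm_eq, six_eq]; exact key c i hi)

/-- The character of a six-point part on numbers. -/
def chiN (x y : ℕ) : ZMod 3 := (x : ZMod 3) - (y : ZMod 3)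

theorem chi_eq (σ : Perm (Fin 10)) : chi σ = chiN (σ 0) (σ 3) := rfl

theorem chi_mul_six : ∀ b c : Fin 2 × Fin 3 × Fin 3, b.1 = 0 → c.1 = 0 →
    chiN (sixN b (sixN c 0)) (sixN b (sixN c 3)) = chiN (sixN b 0) (sixN b 3) + chiN (sixN c 0) (sixN c 3) := by
  decide +kernel

theorem chi_anti_six : ∀ g b c : Fin 2 × Fin 3 × Fin 3, g.1 = 1 → b.1 = 0 → c.1 = 0 →
    sixN c (sixN g 0) = sixN g (sixN b 0) → sixN c (sixN g 3) = sixN g (sixN b 3) →
      chiN (sixN c 0) (sixN c 3) = -chiN (sixN b 0) (sixN b 3) := by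
  decide +kernel

theorem swap_cases (c : Code) : (c.1.1 = 0 → ∀ i, perm c (ca i) = ca (perm c i)) ∧
    (c.1.1 = 1 → ∀ i, perm c (ca i) = cb (perm c i)) := by
  have hca : ∀ i : Fin 10, (ca i : ℕ) = sixN (0, 1, 0) i := by decide +kernel
  have hcb : ∀ i : Fin 10, (cb i : ℕ) = sixN (0, 0, 1) i := by decide +kernel
  have key : ∀ c : Code, (c.1.1 = 0 → ∀ i < 10, permN c (sixN (0, 1, 0) i) = sixN (0, 1, 0) (permN c i)) ∧
      (c.1.1 = 1 → ∀ i < 10, permN c (sixN (0, 1, 0) i) = sixN (0, 0, 1) (permN c i)) := by decide +kernel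
  exact ⟨fun h i => Fin.ext (by rw [perm_eq, hca, hca, perm_eq]; exact (key c).1 h i i.2),
    fun h i => Fin.ext (by rw [perm_eq, hca, hcb, perm_eq]; exact (key c).2 h i i.2)⟩

theorem ca_ne_cb : ∃ i : Fin 10, ca i ≠ cb i := ⟨0, by decide⟩

theorem chi_facts : chi ca = 1 ∧ chi 1 = 0 ∧ chi ct = 0 := by decide +kernel

theorem chi_shift : ∀ c, chiN (sixN c (ctN 1 0)) (sixN c (ctN 1 3)) = chiN (sixN c 0) (sixN c 3) := by decide +kernel

/-- A fixed involution exchanging the supports. -/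
def quad : Perm (Fin 10) := swap 0 3 * swap 1 4 * (swap 2 5 * swap 6 7)

theorem quad_facts : (∀ i, quad (quad i) = i) ∧ (∀ i, quad (ct i) = ct (quad i)) ∧ quad 0 = 3 ∧
    (∀ i, (swap 6 7 * swap 8 9 : Perm (Fin 10)) (quad i) = quad ((swap 6 7 * swap 8 9 : Perm (Fin 10)) i)) := by
  decide +kernel

theorem quad_support : quad.support.card = 8 := by decide +kernel

theorem pow_twentyseven : ∀ c : Code, Even' c → (∀ i < 10, (permN c)^[27] i = i) → ∀ i < 10, (permN c)^[3] i = i := by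
  decide +kernel

/-- The involutions moving eight points. -/
def IsQuad (c : Code) : Prop :=
  Even' c ∧ (∀ i < 10, permN c (permN c i) = i) ∧ ((List.range 10).filter fun i => decide (permN c i ≠ i)).length = 8

instance (c : Code) : Decidable (IsQuad c) := by unfold IsQuad; infer_instance

theorem quad_count : (Finset.univ.filter IsQuad).card = 18 := by decide +kernel

theorem even_count : (Finset.univ.filter Even').card = 216 := by decide +kernel

/-- The fixed involution on numbers. -/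
def quadN (i : ℕ) : ℕ := swapN 0 3 (swapN 1 4 (swapN 2 5 (swapN 6 7 i)))

theorem quad_eq : ∀ i : Fin 10, (quad i : ℕ) = quadN i := by decide +kernel

theorem quad_conj : ∀ c : Code, IsQuad c → ∃ g : Code, Even' g ∧ ∀ i < 10, permN g (quadN i) = permN c (permN g i) := by
  decide +kernel

/-- Commuting up to the two cycles. -/
def CommMod (b c : Code) : Prop :=
  ∃ k : Fin 3, ∀ i < 10, permN c (permN b i) = permN b (ctN k (permN c i))

instance (b c : Code) : Decidable (CommMod b c) := by unfold CommMod; infer_instance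

/-- A three-cycle up to the two cycles. -/
def OneCycle (b : Code) : Prop :=
  ∃ k : Fin 3, ((List.range 10).filter fun i => decide (ctN k (permN b i) ≠ i)).length = 3

instance (b : Code) : Decidable (OneCycle b) := by unfold OneCycle; infer_instance

theorem three_cases : ∀ b : Code, Even' b → b.1.1 = 0 → (∀ i < 10, permN b (permN b (permN b i)) = i) →
    (∃ k : Fin 3, ∀ i < 10, permN b i = ctN k i) ∨ OneCycle b ∨
    ((Finset.univ.filter fun c => Even' c ∧ CommMod b c).card = 27 ∧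
      ∃ q : Code, IsQuad q ∧ q.1.1 = 1 ∧
        ∃ k : Fin 3, ∀ i < 10, permN q (permN b i) = permN b (permN b (ctN k (permN q i)))) := by
  decide +kernel

theorem perm_inj : Function.Injective perm := by
  have dec : ∀ a b : Code, perm a 0 = perm b 0 → perm a 3 = perm b 3 → perm a 6 = perm b 6 →
      perm a 7 = perm b 7 → perm a 8 = perm b 8 → a = b := by
    have h6 : ∀ a b, six a 0 = six b 0 → six a 3 = six b 3 → a = b := by decide +kernel
    have h4' : ∀ a b : Fin 4 × Fin 3 × Fin 2, [four a 6, four a 7, four a 8] = [four b 6, four b 7, four b 8] →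
        a = b := by decide +kernel
    have h4 : ∀ a b : Fin 4 × Fin 3 × Fin 2, four a 6 = four b 6 → four a 7 = four b 7 → four a 8 = four b 8 →
        a = b := fun a b x y w => h4' a b (by rw [x, y, w])
    intro a b e0 e3 e6 e7 e8
    obtain ⟨a0, a3, a6, a7, a8, -⟩ := perm_six a
    obtain ⟨b0, b3, b6, b7, b8, -⟩ := perm_six b
    rw [a0, b0] at e0
    rw [a3, b3] at e3
    rw [a6, b6] at e6
    rw [a7, b7] at e7
    rw [a8, b8] at e8
    exact Prod.ext (h6 _ _ e0 e3) (h4 _ _ e6 e7 e8)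
  intro a b e
  exact dec a b (by rw [e]) (by rw [e]) (by rw [e]) (by rw [e]) (by rw [e])

end Cfsg.Agent.DoubleCoverDeg.TenModel
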