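import Cfsg.Agent.Lib.DoubleCoverDeg.CenThree
import Cfsg.Agent.Lib.DoubleCoverDeg.Fusion
import Cfsg.Agent.Lib.DoubleCoverDeg.Ten.Arith
import Cfsg.Agent.Lib.DoubleCoverDeg.Ten.Model
import Mathlib.GroupTheory.Index

/-!
S1645, degree ten: the centraliser of a lift of two three-cycles modulo that lift carries the local data, so there
is no such group.
-/

set_option autoImplicit false
set_option linter.style.haveILetI false
set_option linter.unusedSectionVars false

namespace Cfsg.Agent.DoubleCoverDeg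

open Cfsg Equiv Subgroup TenModel

universe u

section Points

theorem comm_perm (c : Code) : Commute (perm c) ct :=
  Equiv.ext fun i => by rw [Perm.mul_apply, Perm.mul_apply]; exact perm_comm c i

theorem low_facts : ∀ c : Code, ∀ i < 6, permN c i = sixN c.1 i ∧ sixN c.1 i < 6 := by decide +kernel

theorem chi_code (c : Code) : chi (perm c) = chiN (sixN c.1 0) (sixN c.1 3) := by
  rw [chi_eq, perm_eq, perm_eq, show ((0 : Fin 10) : ℕ) = 0 from rfl, show ((3 : Fin 10) : ℕ) = 3 from rfl,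
    (low_facts c 0 (by norm_num)).1, (low_facts c 3 (by norm_num)).1]

theorem chi_mul_ct {σ : Perm (Fin 10)} (h : Commute σ ct) : chi (σ * ct) = chi σ := by
  obtain ⟨c, rfl⟩ := exists_code h
  have h1 : ∀ j : Fin 10, (ct j : ℕ) = ctN 1 j := fun j => by
    have h := ct_eq 1 j
    rwa [show ((1 : Fin 3) : ℕ) = 1 from rfl, pow_one] at h
  rw [chi_code, chi_eq, Perm.mul_apply, Perm.mul_apply, perm_eq, perm_eq, h1, h1,
    show ((0 : Fin 10) : ℕ) = 0 from rfl, show ((3 : Fin 10) : ℕ) = 3 from rfl,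
    (low_facts c _ (show ctN 1 0 < 6 by decide)).1, (low_facts c _ (show ctN 1 3 < 6 by decide)).1]
  exact chi_shift c.1

theorem chi_mul_ct_pow {σ : Perm (Fin 10)} (h : Commute σ ct) (k : ℕ) : chi (σ * ct ^ k) = chi σ := by
  induction k with
  | zero => rw [pow_zero, mul_one]
  | succ k ih => rw [pow_succ, ← mul_assoc, chi_mul_ct (h.mul_left ((Commute.refl ct).pow_left k)), ih]

theorem perm_pow_eq (c : Code) (n : ℕ) (i : Fin 10) : ((perm c ^ n) i : ℕ) = (permN c)^[n] i := by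
  induction n generalizing i with
  | zero => rfl
  | succ n ih => rw [pow_succ, Perm.mul_apply, ih, Function.iterate_succ_apply, perm_eq]

theorem card_moved (σ : Perm (Fin 10)) (f : ℕ → ℕ) (h : ∀ i : Fin 10, (σ i : ℕ) = f i) :
    ((List.range 10).filter fun i => decide (f i ≠ i)).length = σ.support.card := by
  have e : σ.support.map Fin.valEmbedding = (Finset.range 10).filter fun i => f i ≠ i := by
    ext i
    simp only [Finset.mem_map, Perm.mem_support, Fin.valEmbedding_apply, Finset.mem_filter, Finset.mem_range]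
    constructor
    · rintro ⟨j, hj, rfl⟩
      exact ⟨j.2, fun e => hj (Fin.ext (by rw [h, e]))⟩
    · rintro ⟨hi, hne⟩
      exact ⟨⟨i, hi⟩, fun e => hne (by have := h ⟨i, hi⟩; rw [e] at this; exact this.symm), rfl⟩
  rw [← Finset.card_map Fin.valEmbedding, e, ← List.toFinset_card_of_nodup (List.nodup_range.filter _)]
  congr 1
  ext i
  simp

/-- A three-element commuting with an involution moving eight of ten points moves six. -/
theorem six_of_comm {q s : Perm (Fin 10)} (hq : q * q = 1) (h8 : q.support.card = 8) (hs : s ^ 3 = 1) (h1 : s ≠ 1)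
    (hc : Commute q s) : s.support.card = 6 := by
  classical
  have hqs : ∀ i, q (s i) = s (q i) := fun i => DFunLike.congr_fun hc.eq i
  have hfree : ∀ w, s w ≠ w → q w ≠ w := by
    intro w hw e
    have h3 : s (s (s w)) = w := by
      have := DFunLike.congr_fun hs w
      simpa [pow_succ, Perm.mul_apply] using this
    have d2 : s (s w) ≠ w := fun e2 => hw (by rw [e2] at h3; exact h3)
    have d12 : s (s w) ≠ s w := fun e2 => hw (s.injective e2)
    have hsub : ({w, s w, s (s w)} : Finset (Fin 10)) ⊆ q.supportᶜ := by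
      intro i hi
      simp only [Finset.mem_insert, Finset.mem_singleton] at hi
      rw [Finset.mem_compl, Perm.mem_support, not_not]
      rcases hi with rfl | rfl | rfl
      · exact e
      · rw [hqs, e]
      · rw [hqs, hqs, e]
    have h := Finset.card_le_card hsub
    rw [Finset.card_compl, h8, Fintype.card_fin, Finset.card_insert_of_notMem (by simp [Ne.symm hw, Ne.symm d2]),
      Finset.card_pair (Ne.symm d12)] at h
    omega
  have hsub : s.support ⊆ q.support := fun i hi => Perm.mem_support.2 (hfree i (Perm.mem_support.1 hi))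
  have hle : s.support.card ≤ 8 := h8 ▸ Finset.card_le_card hsub
  have heven : (s.support.card : ZMod 2) = 0 := by
    rw [← Nat.smul_one_eq_cast, ← Finset.sum_const]
    refine Finset.sum_involution (fun i _ => q i) (fun _ _ => by decide) (fun i hi _ => hfree i (Perm.mem_support.1 hi))
      (fun i hi => ?_) fun i _ => apply_apply hq i
    rw [Perm.mem_support, ← hqs]
    exact fun e => (Perm.mem_support.1 hi) (q.injective e)
  have ho : orderOf s = 3 := orderOf_eq_prime hs h1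
  obtain ⟨k, hk⟩ := Perm.cycleType_prime_order (σ := s) (by rw [ho]; norm_num)
  rw [ho] at hk
  have hcard : s.support.card = (k + 1) * 3 := by
    rw [← Perm.sum_cycleType, hk, Multiset.sum_replicate, smul_eq_mul]
  rw [hcard] at hle heven ⊢
  have hk3 : k ≤ 1 := by omega
  interval_cases k
  · exact absurd heven (by decide)
  · rfl

end Points

/-- Lifts of two disjoint three-cycles. -/
structure TenLift {G : Type u} [Group G] (D : Ctx G 10) where
  /-- over the first cycle -/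
  x : D.X
  /-- over the second cycle -/
  y : D.X
  px : D.p x = ca
  py : D.p y = cb
  x3 : x ^ 3 = 1
  y3 : y ^ 3 = 1

namespace Ctx

variable {G : Type u} [Group G] [Finite G] [IsSimpleGroup G] (D : Ctx G 10)

theorem exists_tenLift : Nonempty (TenLift D) := by
  obtain ⟨x, hx, hx3⟩ := D.lift_odd (σ := ca) (by decide +kernel) (m := 3) (by decide) (by decide +kernel)
  obtain ⟨y, hy, hy3⟩ := D.lift_odd (σ := cb) (by decide +kernel) (m := 3) (by decide) (by decide +kernel)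
  exact ⟨⟨x, y, hx, hy, hx3, hy3⟩⟩

theorem order_of_cycle {c : D.X} (h : (D.p c).IsThreeCycle) (h3 : c ^ 3 = 1) : orderOf (c : G) = 3 := by
  rw [orderOf_coe]
  refine orderOf_eq_prime h3 fun e => ?_
  have := h.orderOf
  rw [e, map_one, orderOf_one] at this
  norm_num at this

/-- The only involution commuting with a lift of a three-cycle. -/
theorem only_invol' {c v : D.X} (h : (D.p c).IsThreeCycle) (h3 : c ^ 3 = 1) (hv : v * v = 1) (hc : Commute v c) :
    v = 1 ∨ v = D.zX := by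
  obtain ⟨u, hu, hu3⟩ := D.exists_std_lift (n := 10) (by norm_num) c h h3
  rcases D.only_invol (by norm_num) hu hu3 le_rfl (v := u * v * u⁻¹)
    (by rw [show u * v * u⁻¹ * (u * v * u⁻¹) = u * (v * v) * u⁻¹ by group, hv]; group)
    (hc.map (MulAut.conj u).toMonoidHom) with e | e
  · exact Or.inl (conj_eq_one_iff.1 e)
  · refine Or.inr ?_
    calc v = u⁻¹ * (u * v * u⁻¹) * u := by group
      _ = u⁻¹ * (D.zX * u) := by rw [e]; group
      _ = _ := by rw [D.z_comm]; group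

/-- **A conjugate of a lift of a three-cycle inside the centraliser comes from inside.** -/
theorem strong_cycle (c : D.X) (h : (D.p c).IsThreeCycle) (h3 : c ^ 3 = 1) {g : G}
    (hg : g * c * g⁻¹ ∈ D.X) : g ∈ D.X := by
  have hz2 : D.z * D.z = 1 := congrArg Subtype.val D.z_sq
  have h1 : Commute (g⁻¹ * D.z * g) (c : G) := by
    have h := (show Commute (g * c * g⁻¹) D.z from mem_centralizer_singleton_iff.1 hg).symm.map
      (MulAut.conj g⁻¹).toMonoidHom
    simpa [MulAut.conj_apply, mul_assoc] using h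
  have hmem : g⁻¹ * D.z * g ∈ D.X := cenThree_le D c h (D.order_of_cycle h h3) (mem_centralizer_singleton_iff.2 h1.eq)
  rcases D.only_invol' h h3 (v := ⟨_, hmem⟩) (Subtype.ext (by
      show g⁻¹ * D.z * g * (g⁻¹ * D.z * g) = 1
      rw [show g⁻¹ * D.z * g * (g⁻¹ * D.z * g) = g⁻¹ * (D.z * D.z) * g by group, hz2]
      group)) (Subtype.ext h1.eq) with e | e
  · have e' : g⁻¹ * D.z * g = 1 := congrArg Subtype.val e
    exact absurd (Subtype.ext (by
      calc D.z = g * (g⁻¹ * D.z * g) * g⁻¹ := by group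
        _ = 1 := by rw [e']; group)) D.z_ne
  · have e' : g⁻¹ * D.z * g = D.z := congrArg Subtype.val e
    refine mem_centralizer_singleton_iff.2 ?_
    calc g * D.z = g * (g⁻¹ * D.z * g) := by rw [e']
      _ = D.z * g := by group

/-- Lifts of involutions moving eight points are involutions. -/
theorem sq_of_eight {v : D.X} (h2 : D.p v * D.p v = 1) (h8 : (D.p v).support.card = 8) : v * v = 1 := by
  obtain ⟨g, hg, hne⟩ := D.exists_fused (by norm_num)
  set A : D.X := ⟨g * D.z * g⁻¹, D.mem_of_commute hg.symm⟩ with hA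
  have hz2 : D.z * D.z = 1 := congrArg Subtype.val D.z_sq
  have hA2 : A * A = 1 := Subtype.ext (by
    show g * D.z * g⁻¹ * (g * D.z * g⁻¹) = 1
    rw [show g * D.z * g⁻¹ * (g * D.z * g⁻¹) = g * (D.z * D.z) * g⁻¹ by group, hz2]
    group)
  have hA1 : A ≠ 1 := fun e => D.z_ne (Subtype.ext (conj_eq_one_iff.1 (congrArg Subtype.val e)))
  have hAz : A ≠ D.zX := fun e => hne (congrArg Subtype.val e)
  obtain ⟨s, hs, es⟩ := invol_conj (D.p_invol hA2) h2 (D.p_ne_one hA1 hAz)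
    ((D.invol_eight (by norm_num) (by norm_num) hA2 hA1 hAz).trans h8.symm)
  obtain ⟨k, rfl⟩ := D.p_surj hs
  rw [D.sq_congr (show D.p v = D.p (k * A * k⁻¹) by rw [map_mul, map_mul, map_inv, es]),
    show k * A * k⁻¹ * (k * A * k⁻¹) = k * (A * A) * k⁻¹ by group, hA2]
  group

end Ctx

namespace TenLift

variable {G : Type u} [Group G] [Finite G] [IsSimpleGroup G] {D : Ctx G 10} (T : TenLift D)

/-- The lift of the two cycles. -/
def t : D.X := T.x * T.y

theorem p_t : D.p T.t = ct := by rw [t, map_mul, T.px, T.py, ct]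

theorem xy : Commute T.x T.y :=
  D.comm_odd (m := 3) (by decide) T.y3 (by rw [T.px, T.py, commute_iff_eq]; decide +kernel)

theorem t3 : T.t ^ 3 = 1 := by rw [t, T.xy.mul_pow, T.x3, T.y3, one_mul]

theorem t3' : (T.t : G) ^ 3 = 1 := by rw [← SubmonoidClass.coe_pow, T.t3, OneMemClass.coe_one]

/-- The centraliser in the group. -/
abbrev K : Subgroup G := centralizer ({(T.t : G)} : Set G)

/-- The lift in its centraliser. -/
def tK : T.K := ⟨(T.t : G), mem_centralizer_singleton_iff.2 rfl⟩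

/-- The powers of the lift. -/
abbrev P : Subgroup T.K := zpowers T.tK

instance : (zpowers T.tK).Normal := ⟨fun a ha g => by
  have hc : Commute g T.tK := Subtype.ext (mem_centralizer_singleton_iff.1 g.2)
  obtain ⟨i, rfl⟩ := mem_zpowers_iff.1 ha
  rw [(hc.zpow_right i).eq, mul_inv_cancel_right]
  exact zpow_mem (mem_zpowers _) i⟩

/-- The centraliser in the cover. -/
abbrev C : Subgroup D.X := centralizer ({T.t} : Set D.X)

theorem mem_C {v : D.X} : v ∈ T.C ↔ Commute (D.p v) ct :=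
  ⟨fun h => T.p_t ▸ (show Commute v T.t from mem_centralizer_singleton_iff.1 h).map D.p,
    fun h => mem_centralizer_singleton_iff.2 (D.comm_odd (m := 3) (by decide) T.t3 (T.p_t.symm ▸ h)).eq⟩

/-- The inclusion. -/
def incl : T.C →* T.K where
  toFun v := ⟨((v : D.X) : G), mem_centralizer_singleton_iff.2
    (congrArg Subtype.val (mem_centralizer_singleton_iff.1 v.2))⟩
  map_one' := rfl
  map_mul' _ _ := rfl

/-- The projection. -/
def φ : T.C →* T.K ⧸ T.P := (QuotientGroup.mk' T.P).comp T.incl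

/-- The lift in the centraliser in the cover. -/
def tC : T.C := ⟨T.t, mem_centralizer_singleton_iff.2 rfl⟩

/-- The involution in the centraliser in the cover. -/
def zC : T.C := ⟨D.zX, mem_centralizer_singleton_iff.2 (D.z_comm T.t)⟩

theorem exists_pow {k : T.K} (hk : k ∈ T.P) : ∃ i : Fin 3, k = T.tK ^ (i : ℕ) := by
  obtain ⟨j, rfl⟩ := mem_zpowers_iff.1 hk
  have h3 : T.tK ^ 3 = 1 := Subtype.ext T.t3'
  refine ⟨⟨(j % 3).toNat, by omega⟩, ?_⟩
  rw [← zpow_natCast]
  show T.tK ^ j = T.tK ^ (((j % 3).toNat : ℕ) : ℤ)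
  rw [Int.toNat_of_nonneg (Int.emod_nonneg _ (by norm_num))]
  conv_lhs => rw [show j = j % 3 + 3 * (j / 3) by omega, zpow_add, zpow_mul]
  simp [h3, zpow_ofNat]

theorem φ_tC : T.φ T.tC = 1 := (QuotientGroup.eq_one_iff _).2 (mem_zpowers T.tK)

theorem φ_eq {v w : T.C} : T.φ v = T.φ w ↔ ∃ i : Fin 3, w = v * T.tC ^ (i : ℕ) := by
  constructor
  · intro e
    obtain ⟨i, hi⟩ := T.exists_pow (QuotientGroup.eq.1 e)
    refine ⟨i, Subtype.ext (Subtype.ext ?_)⟩
    have := congrArg (fun k : T.K => (k : G)) hi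
    simp only [incl, MonoidHom.coe_mk, OneHom.coe_mk, Subgroup.coe_mul, InvMemClass.coe_inv,
      SubmonoidClass.coe_pow, tK] at this
    simp only [Subgroup.coe_mul, SubmonoidClass.coe_pow, tC]
    rw [← this]
    group
  · rintro ⟨i, rfl⟩
    rw [map_mul, map_pow, T.φ_tC, one_pow, mul_one]

/-- The involution of the local group. -/
def zH : T.K ⧸ T.P := T.φ T.zC

/-- The element of order three of the local group. -/
def uH : T.K ⧸ T.P := T.φ ⟨T.x, T.mem_C.2 (by rw [T.px, commute_iff_eq]; decide +kernel)⟩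

theorem uH_inv : T.φ ⟨T.y, T.mem_C.2 (by rw [T.py, commute_iff_eq]; decide +kernel)⟩ = T.uH⁻¹ := by
  refine eq_inv_of_mul_eq_one_right ?_
  rw [uH, ← map_mul]
  exact T.φ_tC

/-- An element whose image centralises the involution lies in the cover. -/
theorem mem_X {k : T.K} (h : Commute (QuotientGroup.mk' T.P k) T.zH) : (k : G) ∈ D.X := by
  have h2 : QuotientGroup.mk' T.P (k * T.incl T.zC * k⁻¹ * (T.incl T.zC)⁻¹) = 1 := by
    rw [map_mul, map_mul, map_mul, map_inv, map_inv]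
    show _ * T.zH * _ * T.zH⁻¹ = 1
    rw [h.eq]
    group
  obtain ⟨i, hi⟩ := T.exists_pow ((QuotientGroup.eq_one_iff _).1 h2)
  have e0 := congrArg (fun q : T.K => (q : G)) hi
  simp only [incl, MonoidHom.coe_mk, OneHom.coe_mk, Subgroup.coe_mul, InvMemClass.coe_inv, SubmonoidClass.coe_pow,
    tK, zC] at e0
  change (k : G) * D.z * (k : G)⁻¹ * D.z⁻¹ = (T.t : G) ^ (i : ℕ) at e0
  have hz2 : D.z * D.z = 1 := congrArg Subtype.val D.z_sq
  have hzt : Commute D.z (T.t : G) := (mem_centralizer_singleton_iff.1 T.t.2).symm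
  have e1 : (k : G) * D.z * (k : G)⁻¹ = (T.t : G) ^ (i : ℕ) * D.z := by rw [← e0, inv_mul_cancel_right]
  have e2 : (T.t : G) ^ (i : ℕ) * ((T.t : G) ^ (i : ℕ)) = 1 := by
    calc (T.t : G) ^ (i : ℕ) * (T.t : G) ^ (i : ℕ)
        = (T.t : G) ^ (i : ℕ) * (T.t : G) ^ (i : ℕ) * (D.z * D.z) := by rw [hz2, mul_one]
      _ = (T.t : G) ^ (i : ℕ) * D.z * ((T.t : G) ^ (i : ℕ) * D.z) := by
          rw [mul_assoc ((T.t : G) ^ (i : ℕ)) D.z, ← mul_assoc D.z, (hzt.pow_right _).eq]
          group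
      _ = (k : G) * (D.z * D.z) * (k : G)⁻¹ := by rw [← e1]; group
      _ = 1 := by rw [hz2]; group
  have e3 : (T.t : G) ^ (i : ℕ) = 1 := by
    have h3 : ((T.t : G) ^ (i : ℕ)) ^ 3 = 1 := by rw [← pow_mul, mul_comm, pow_mul, T.t3', one_pow]
    rwa [pow_three, e2, mul_one] at h3
  refine mem_centralizer_singleton_iff.2 (mul_inv_eq_iff_eq_mul.1 ?_)
  rw [e1, e3, one_mul]

theorem lift_N {h : T.K ⧸ T.P} (hz : Commute h T.zH) : ∃ v : T.C, T.φ v = h := by
  obtain ⟨k, rfl⟩ := QuotientGroup.mk'_surjective T.P h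
  refine ⟨⟨⟨(k : G), T.mem_X hz⟩, mem_centralizer_singleton_iff.2 (Subtype.ext ?_)⟩, rfl⟩
  exact mem_centralizer_singleton_iff.1 k.2

theorem φ_comm_z (v : T.C) : Commute (T.φ v) T.zH := by
  refine Commute.map ?_ T.φ
  exact Subtype.ext (D.z_comm (v : D.X)).symm

theorem code (v : T.C) : ∃ c : Code, perm c = D.p (v : D.X) ∧ Even' c := by
  obtain ⟨c, hc⟩ := exists_code (T.mem_C.1 v.2)
  exact ⟨c, hc, (sign_perm c).1 (hc ▸ D.sign_p _)⟩

theorem conj_x {v : T.C} {c : Code} (hc : perm c = D.p (v : D.X)) :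
    (c.1.1 = 0 → Commute (v : D.X) T.x) ∧ (c.1.1 = 1 → (v : D.X) * T.x * (v : D.X)⁻¹ = T.y) := by
  refine ⟨fun h0 => D.comm_odd (m := 3) (by decide) T.x3 ?_, fun h1 => D.lift_uniq (m := 3) (by decide) ?_ T.y3 ?_⟩
  · rw [← hc, T.px]
    exact Equiv.ext ((swap_cases c).1 h0)
  · rw [conj_pow, T.x3, mul_one, mul_inv_cancel]
  · rw [map_mul, map_mul, map_inv, ← hc, T.px, T.py, mul_inv_eq_iff_eq_mul]
    exact Equiv.ext ((swap_cases c).2 h1)

theorem uH_cube : T.uH ^ 3 = 1 := by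
  rw [uH, ← map_pow, show (⟨T.x, _⟩ : T.C) ^ 3 = 1 from Subtype.ext T.x3, map_one]

theorem uH_ne : T.uH ≠ 1 := fun e => by
  obtain ⟨i, hi⟩ := T.φ_eq.1 (e.trans (map_one T.φ).symm)
  have h := congrArg (fun w : T.C => D.p (w : D.X)) hi
  simp only [OneMemClass.coe_one, map_one, Subgroup.coe_mul, SubmonoidClass.coe_pow, map_mul, map_pow, tC, T.p_t,
    T.px] at h
  revert h
  generalize i = j
  revert j
  decide +kernel

theorem uH_ne_inv : T.uH ≠ T.uH⁻¹ := fun e => T.uH_ne (by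
  have h2 : T.uH * T.uH = 1 := by nth_rw 2 [e]; exact mul_inv_cancel _
  calc T.uH = T.uH ^ 3 * (T.uH * T.uH)⁻¹ := by group
    _ = 1 := by rw [T.uH_cube, h2, inv_one, one_mul])

theorem commU {v : T.C} {c : Code} (hc : perm c = D.p (v : D.X)) :
    (c.1.1 = 0 → Commute (T.φ v) T.uH) ∧ (c.1.1 = 1 → T.φ v * T.uH * (T.φ v)⁻¹ = T.uH⁻¹ ∧ ¬ Commute (T.φ v) T.uH) := by
  refine ⟨fun h0 => Commute.map (Subtype.ext ((T.conj_x hc).1 h0).eq) T.φ, fun h1 => ?_⟩
  have e : T.φ v * T.uH * (T.φ v)⁻¹ = T.uH⁻¹ := by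
    rw [← T.uH_inv, uH, ← map_inv, ← map_mul, ← map_mul]
    exact congrArg T.φ (Subtype.ext ((T.conj_x hc).2 h1))
  refine ⟨e, fun hcm => T.uH_ne_inv ?_⟩
  rwa [hcm.eq, mul_inv_cancel_right] at e

theorem w_of_comm {v : T.C} {c : Code} (hc : perm c = D.p (v : D.X)) (h : Commute (T.φ v) T.uH) : c.1.1 = 0 := by
  rcases (show ∀ w : Fin 2, w = 0 ∨ w = 1 by decide) c.1.1 with e | e
  · exact e
  · exact absurd h ((T.commU hc).2 e).2

theorem w_of_not_comm {v : T.C} {c : Code} (hc : perm c = D.p (v : D.X)) (h : ¬ Commute (T.φ v) T.uH) :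
    c.1.1 = 1 := by
  rcases (show ∀ w : Fin 2, w = 0 ∨ w = 1 by decide) c.1.1 with e | e
  · exact absurd ((T.commU hc).1 e) h
  · exact e

/-- The permutations of the centraliser. -/
def pC : T.C →* Perm (Fin 10) := D.p.comp T.C.subtype

theorem card_with_image (S : Subgroup T.C) (hz : T.zC ∈ S) (A : Finset Code)
    (hA : ∀ c, c ∈ A ↔ ∃ v ∈ S, perm c = D.p (v : D.X)) : Nat.card S = 2 * A.card := by
  classical
  set f := T.pC.comp S.subtype with hf
  have hfa : ∀ v : S, f v = D.p ((v : T.C) : D.X) := fun v => rfl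
  have hker : f.ker = zpowers (⟨T.zC, hz⟩ : S) := by
    refine le_antisymm (fun v hv => ?_) (zpowers_le.2 (by rw [MonoidHom.mem_ker, hfa]; exact D.p_z))
    rw [MonoidHom.mem_ker, hfa] at hv
    rcases D.p_eq_one.1 hv with e | e
    · rw [show v = 1 from Subtype.ext (Subtype.ext e)]; exact one_mem _
    · rw [show v = (⟨T.zC, hz⟩ : S) from Subtype.ext (Subtype.ext e)]; exact mem_zpowers _
  have hord : orderOf (⟨T.zC, hz⟩ : S) = 2 := by
    rw [← orderOf_coe, ← orderOf_coe, ← orderOf_coe]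
    exact D.ord
  have hrange : (f.range : Set (Perm (Fin 10))) = (A.image perm : Finset _) := by
    ext σ
    simp only [MonoidHom.coe_range, Set.mem_range, Finset.coe_image, Set.mem_image, Finset.mem_coe]
    constructor
    · rintro ⟨v, rfl⟩
      obtain ⟨c, hc, -⟩ := T.code (v : T.C)
      exact ⟨c, (hA c).2 ⟨v, v.2, hc⟩, hc⟩
    · rintro ⟨c, hc, rfl⟩
      obtain ⟨v, hv, e⟩ := (hA c).1 hc
      exact ⟨⟨v, hv⟩, e.symm⟩
  have hr : Nat.card f.range = A.card := by
    rw [show Nat.card f.range = Nat.card (f.range : Set (Perm (Fin 10))) from rfl, hrange, Nat.card_coe_set_eq,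
      Set.ncard_coe_finset, Finset.card_image_of_injective _ perm_inj]
  rw [← f.ker.card_mul_index, index_ker, hr, hker, Nat.card_zpowers, hord]

theorem card_C : Nat.card T.C = 432 := by
  have h := T.card_with_image ⊤ (mem_top _) (Finset.univ.filter Even') fun c => by
    simp only [Finset.mem_filter, Finset.mem_univ, true_and, mem_top]
    refine ⟨fun he => ?_, fun ⟨v, hv⟩ => (sign_perm c).1 (hv ▸ D.sign_p _)⟩
    obtain ⟨v, hv⟩ := D.p_surj ((sign_perm c).2 he)
    exact ⟨⟨v, T.mem_C.2 (hv ▸ comm_perm c)⟩, hv.symm⟩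
  rwa [Subgroup.card_top, even_count] at h

theorem card_comap (S : Subgroup (T.K ⧸ T.P)) (hS : S ≤ centralizer ({T.zH} : Set (T.K ⧸ T.P))) :
    Nat.card (S.comap T.φ) = 3 * Nat.card S := by
  classical
  set f := T.φ.comp (S.comap T.φ).subtype with hf
  have hrange : f.range = S := by
    ext h
    constructor
    · rintro ⟨v, rfl⟩; exact v.2
    · intro hh
      obtain ⟨v, hv⟩ := T.lift_N (mem_centralizer_singleton_iff.1 (hS hh))
      exact ⟨⟨v, show T.φ v ∈ S by rwa [hv]⟩, hv⟩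
  have htS : T.tC ∈ S.comap T.φ := show T.φ T.tC ∈ S by rw [T.φ_tC]; exact one_mem _
  have hker : f.ker = zpowers (⟨T.tC, htS⟩ : S.comap T.φ) := by
    refine le_antisymm (fun v hv => ?_) (zpowers_le.2 (MonoidHom.mem_ker.2 T.φ_tC))
    obtain ⟨i, hi⟩ := T.φ_eq.1 ((map_one T.φ).trans (MonoidHom.mem_ker.1 hv).symm : T.φ 1 = T.φ (v : T.C))
    rw [one_mul] at hi
    rw [show v = (⟨T.tC, htS⟩ : S.comap T.φ) ^ (i : ℕ) from Subtype.ext hi]
    exact pow_mem (mem_zpowers _) _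
  have hord : orderOf (⟨T.tC, htS⟩ : S.comap T.φ) = 3 := by
    rw [← orderOf_coe]
    refine orderOf_eq_prime (Subtype.ext T.t3) fun e => ?_
    have h := congrArg (fun w : T.C => D.p (w : D.X)) e
    simp only [tC, T.p_t, OneMemClass.coe_one, map_one] at h
    revert h
    decide +kernel
  rw [← f.ker.card_mul_index, index_ker, hrange, hker, Nat.card_zpowers, hord]

theorem card_N : Nat.card (centralizer ({T.zH} : Set (T.K ⧸ T.P))) = 144 := by
  have h := T.card_comap _ le_rfl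
  rw [show (centralizer ({T.zH} : Set (T.K ⧸ T.P))).comap T.φ = ⊤ from eq_top_iff.2 fun v _ =>
    mem_centralizer_singleton_iff.2 (T.φ_comm_z v).eq, Subgroup.card_top, T.card_C] at h
  omega

theorem uz : Commute T.uH T.zH := T.φ_comm_z _

theorem card_K :
    Nat.card ↥(centralizer ({T.zH} : Set (T.K ⧸ T.P)) ⊓ centralizer ({T.uH} : Set (T.K ⧸ T.P))) = 72 := by
  set N := centralizer ({T.zH} : Set (T.K ⧸ T.P))
  set K0 := (N ⊓ centralizer ({T.uH} : Set (T.K ⧸ T.P))).subgroupOf N with hK0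
  have hwc : Commute (perm ((1, 0, 0), (1, 0, 0))) ct := comm_perm _
  obtain ⟨w, hw⟩ := D.p_surj ((sign_perm ((1, 0, 0), (1, 0, 0))).2 (by decide))
  let wC : T.C := ⟨w, T.mem_C.2 (hw ▸ hwc)⟩
  have hwn : ¬ Commute (T.φ wC) T.uH := ((T.commU (v := wC) hw.symm).2 rfl).2
  have hidx : K0.index = 2 := by
    refine index_eq_two_iff.2 ⟨⟨T.φ wC, mem_centralizer_singleton_iff.2 (T.φ_comm_z wC).eq⟩, fun b => ?_⟩
    obtain ⟨v, hv⟩ := T.lift_N (mem_centralizer_singleton_iff.1 b.2)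
    obtain ⟨c, hc, -⟩ := T.code v
    have hmem : ∀ q : N, q ∈ K0 ↔ Commute (q : T.K ⧸ T.P) T.uH := fun q =>
      ⟨fun h => mem_centralizer_singleton_iff.1 h.2, fun h => ⟨q.2, mem_centralizer_singleton_iff.2 h.eq⟩⟩
    rw [hmem, hmem, xor_iff_not_iff]
    show ¬ (Commute ((b : T.K ⧸ T.P) * T.φ wC) T.uH ↔ Commute (b : T.K ⧸ T.P) T.uH)
    rw [← hv]
    intro hiff
    rcases (show ∀ k : Fin 2, k = 0 ∨ k = 1 by decide) c.1.1 with e | e
    · have h0 := (T.commU hc).1 e
      have := h0.inv_left.mul_left (hiff.2 h0)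
      rw [inv_mul_cancel_left] at this
      exact hwn this
    · obtain ⟨e1, h1⟩ := (T.commU hc).2 e
      refine h1 (hiff.1 ?_)
      have e2 := ((T.commU (v := wC) hw.symm).2 rfl).1
      show _ = _
      rw [← mul_inv_eq_iff_eq_mul]
      calc T.φ v * T.φ wC * T.uH * (T.φ v * T.φ wC)⁻¹ = T.φ v * (T.φ wC * T.uH * (T.φ wC)⁻¹) * (T.φ v)⁻¹ := by group
        _ = (T.φ v * T.uH * (T.φ v)⁻¹)⁻¹ := by rw [e2]; group
        _ = T.uH := by rw [e1, inv_inv]
  have h := K0.card_mul_index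
  rw [hidx, show Nat.card N = 144 from T.card_N,
    show Nat.card K0 = Nat.card ↥(N ⊓ centralizer ({T.uH} : Set (T.K ⧸ T.P))) from
      Nat.card_congr (subgroupOfEquivOfLe inf_le_left).toEquiv] at h
  omega

open scoped Classical in
/-- The linear character. -/
noncomputable def ψH (h : T.K ⧸ T.P) : ZMod 3 :=
  if hz : Commute h T.zH then chi (D.p ((T.lift_N hz).choose : D.X)) else 0

theorem ψH_φ (v : T.C) : T.ψH (T.φ v) = chi (D.p (v : D.X)) := by
  rw [ψH, dif_pos (T.φ_comm_z v)]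
  obtain ⟨i, hi⟩ := T.φ_eq.1 (T.lift_N (T.φ_comm_z v)).choose_spec.symm
  rw [hi, Subgroup.coe_mul, SubmonoidClass.coe_pow, map_mul, map_pow, tC, T.p_t]
  exact chi_mul_ct_pow (T.mem_C.1 v.2) _

theorem ψ_mul {v w : T.C} (hv : Commute (T.φ v) T.uH) (hw : Commute (T.φ w) T.uH) :
    T.ψH (T.φ v * T.φ w) = T.ψH (T.φ v) + T.ψH (T.φ w) := by
  rw [← map_mul, T.ψH_φ, T.ψH_φ, T.ψH_φ, Subgroup.coe_mul, map_mul]
  obtain ⟨b, hb, -⟩ := T.code v
  obtain ⟨c, hc, -⟩ := T.code w
  rw [← hb, ← hc, chi_code b, chi_code c, chi_eq, Perm.mul_apply, Perm.mul_apply, perm_eq, perm_eq, perm_eq, perm_eq,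
    show ((0 : Fin 10) : ℕ) = 0 from rfl, show ((3 : Fin 10) : ℕ) = 3 from rfl,
    (low_facts c 0 (by norm_num)).1, (low_facts c 3 (by norm_num)).1,
    (low_facts b _ (low_facts c 0 (by norm_num)).2).1, (low_facts b _ (low_facts c 3 (by norm_num)).2).1]
  exact chi_mul_six _ _ (T.w_of_comm hb hv) (T.w_of_comm hc hw)

theorem ψ_anti {g v : T.C} (hg : ¬ Commute (T.φ g) T.uH) (hv : Commute (T.φ v) T.uH) :
    T.ψH (T.φ g * T.φ v * (T.φ g)⁻¹) = -T.ψH (T.φ v) := by
  rw [← map_inv, ← map_mul, ← map_mul, T.ψH_φ, T.ψH_φ]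
  set w := g * v * g⁻¹ with hw
  obtain ⟨a, ha, -⟩ := T.code g
  obtain ⟨b, hb, -⟩ := T.code v
  obtain ⟨c, hc, -⟩ := T.code w
  have ha1 := T.w_of_not_comm ha hg
  have hb0 := T.w_of_comm hb hv
  have hrel : perm c * perm a = perm a * perm b := by
    rw [ha, hb, hc, ← map_mul, ← map_mul, hw]
    congr 1
    simp only [Subgroup.coe_mul, InvMemClass.coe_inv]
    group
  have hpt : ∀ i < 6, sixN c.1 (sixN a.1 i) = sixN a.1 (sixN b.1 i) := fun i hi => by
    have h := congrArg Fin.val (DFunLike.congr_fun hrel (⟨i, by omega⟩ : Fin 10))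
    simp only [Perm.mul_apply, perm_eq] at h
    rwa [(low_facts a i hi).1, (low_facts c _ (low_facts a i hi).2).1, (low_facts b i hi).1,
      (low_facts a _ (low_facts b i hi).2).1] at h
  have hcu : Commute (T.φ w) T.uH := by
    have e := ((T.commU ha).2 ha1).1
    have h := (hv.inv_right).map (MulAut.conj (T.φ g)).toMonoidHom
    simpa [hw, MulAut.conj_apply, map_inv, e] using h
  rw [← hc, ← hb, chi_code, chi_code]
  exact chi_anti_six a.1 b.1 c.1 ha1 hb0 (T.w_of_comm hc hcu) (hpt 0 (by norm_num)) (hpt 3 (by norm_num))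

theorem fin_zero_or_z {q : T.C} (h2 : q * q = 1) (hc : Commute (q : D.X) T.x) : T.φ q = 1 ∨ T.φ q = T.zH := by
  have hcyc : (D.p T.x).IsThreeCycle := by
    rw [T.px, show ca = swap 1 0 * swap 1 2 by rw [ca, swap_comm]]
    exact Perm.isThreeCycle_swap_mul_swap_same (by decide) (by decide) (by decide)
  rcases D.only_invol' (c := T.x) hcyc
      T.x3 (congrArg Subtype.val h2) hc with e | e
  · exact Or.inl (by rw [show q = 1 from Subtype.ext e, map_one])
  · exact Or.inr (by rw [show q = T.zC from Subtype.ext e]; rfl)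

theorem invol_lift {v : T.C} (h2 : T.φ v * T.φ v = 1) : ∃ w : T.C, T.φ w = T.φ v ∧ w * w = 1 := by
  refine ⟨v ^ 3, ?_, ?_⟩
  · rw [map_pow, pow_succ, pow_two, h2, one_mul]
  · obtain ⟨i, hi⟩ := T.φ_eq.1 ((map_one T.φ).trans (by rw [map_mul, h2]) : T.φ 1 = T.φ (v * v))
    rw [one_mul] at hi
    have ht : T.tC ^ 3 = 1 := Subtype.ext T.t3
    rw [← (Commute.refl v).mul_pow, hi, ← pow_mul, mul_comm, pow_mul, ht, one_pow]

theorem code_quad {v : T.C} (hv : v * v = 1) (h1 : v ≠ 1) (hz : v ≠ T.zC) :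
    ∃ c : Code, perm c = D.p (v : D.X) ∧ IsQuad c := by
  obtain ⟨c, hc, he⟩ := T.code v
  have h2' := D.p_invol (congrArg Subtype.val hv : (v : D.X) * v = 1)
  have h8 := D.invol_eight (x := (v : D.X)) (by norm_num) (by norm_num) (congrArg Subtype.val hv)
    (fun e => h1 (Subtype.ext e)) (fun e => hz (Subtype.ext e))
  rw [← hc] at h2' h8
  refine ⟨c, hc, he, fun i hi => ?_, ?_⟩
  · have := congrArg Fin.val (apply_apply h2' (⟨i, hi⟩ : Fin 10))
    simpa only [perm_eq] using this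
  · rw [card_moved (perm c) (permN c) (perm_eq c), h8]

theorem lift_quad {c : Code} (hc : IsQuad c) :
    ∃ v : T.C, D.p (v : D.X) = perm c ∧ v * v = 1 ∧ v ≠ 1 ∧ v ≠ T.zC := by
  obtain ⟨v, hv⟩ := D.p_surj ((sign_perm c).2 hc.1)
  have h8 : (perm c).support.card = 8 := by rw [← card_moved (perm c) (permN c) (perm_eq c)]; exact hc.2.2
  have h2 : perm c * perm c = 1 := Equiv.ext fun i => Fin.ext (by
    simp only [Perm.mul_apply, perm_eq, Perm.one_apply]
    exact hc.2.1 i i.2)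
  refine ⟨⟨v, T.mem_C.2 (hv ▸ comm_perm c)⟩, hv,
    Subtype.ext (D.sq_of_eight (by rw [hv]; exact h2) (by rw [hv]; exact h8)), ?_, ?_⟩ <;> intro e <;>
    (have e' := congrArg (fun w : T.C => D.p (w : D.X)) e
     simp only [hv, zC, OneMemClass.coe_one, map_one, D.p_z] at e'
     rw [e'] at h8
     simp at h8)

/-- The involutions other than the central one. -/
abbrev RC : Type u := {v : T.C // v * v = 1 ∧ v ≠ 1 ∧ v ≠ T.zC}

theorem card_RC : Nat.card T.RC = 36 := by
  classical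
  choose l hl hl2 hl1 hlz using fun c : {c : Code // IsQuad c} => T.lift_quad c.2
  have hz2 : T.zC * T.zC = 1 := Subtype.ext D.z_sq
  let f : Bool × {c : Code // IsQuad c} → T.RC := fun bc =>
    if bc.1 then ⟨T.zC * l bc.2, by
        rw [show T.zC * l bc.2 * (T.zC * l bc.2) = T.zC * (l bc.2 * T.zC) * l bc.2 by group,
          show l bc.2 * T.zC = T.zC * l bc.2 from Subtype.ext (D.z_comm _).symm, ← mul_assoc T.zC T.zC, hz2, one_mul]
        exact hl2 bc.2,
      fun e => hlz bc.2 (by rw [← inv_eq_of_mul_eq_one_right e, inv_eq_of_mul_eq_one_right hz2]),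
      fun e => hl1 bc.2 (mul_left_cancel (e.trans (mul_one _).symm))⟩
    else ⟨l bc.2, hl2 bc.2, hl1 bc.2, hlz bc.2⟩
  have hp : ∀ bc, D.p ((f bc).1 : D.X) = perm bc.2.1 := by
    rintro ⟨b, c⟩
    cases b
    · exact hl c
    · show D.p ((T.zC * l c : T.C) : D.X) = _
      rw [Subgroup.coe_mul, map_mul, zC, D.p_z, one_mul, hl]
  have hbij : Function.Bijective f := by
    constructor
    · rintro ⟨b, c⟩ ⟨b', c'⟩ e
      have hcc : c = c' := Subtype.ext (perm_inj (by rw [← hp (b, c), ← hp (b', c'), e]))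
      subst hcc
      have e' := congrArg Subtype.val e
      cases b <;> cases b' <;> first | rfl | exfalso
      · exact D.z_ne (congrArg Subtype.val (mul_eq_right.1 (e'.symm : T.zC * l c = l c)))
      · exact D.z_ne (congrArg Subtype.val (mul_eq_right.1 (e' : T.zC * l c = l c)))
    · intro v
      obtain ⟨c, hc, hq⟩ := T.code_quad v.2.1 v.2.2.1 v.2.2.2
      rcases D.eq_or (show D.p ((v.1 : T.C) : D.X) = D.p ((l ⟨c, hq⟩ : T.C) : D.X) by rw [hl, hc]) with e | e
      · exact ⟨(false, ⟨c, hq⟩), Subtype.ext (Subtype.ext e.symm)⟩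
      · exact ⟨(true, ⟨c, hq⟩), Subtype.ext (Subtype.ext e.symm)⟩
  rw [← Nat.card_eq_of_bijective f hbij, Nat.card_prod, Nat.card_eq_fintype_card (α := Bool), Fintype.card_bool,
    Nat.card_eq_fintype_card, Fintype.card_subtype, quad_count]

theorem card_R :
    Nat.card {a : T.K ⧸ T.P // Commute a T.zH ∧ a * a = 1 ∧ a ≠ 1 ∧ a ≠ T.zH} = 36 := by
  rw [← T.card_RC]
  have hinj : ∀ v w : T.C, v * v = 1 → w * w = 1 → T.φ v = T.φ w → v = w := by
    intro v w hv hw e
    obtain ⟨i, rfl⟩ := T.φ_eq.1 e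
    have ht : T.tC ^ 3 = 1 := Subtype.ext T.t3
    have hvt : Commute v (T.tC ^ (i : ℕ)) :=
      (show Commute v T.tC from Subtype.ext (mem_centralizer_singleton_iff.1 v.2)).pow_right _
    have h2 : (T.tC ^ (i : ℕ)) ^ 2 = 1 := by
      rw [← pow_two, hvt.mul_pow, pow_two v, hv, one_mul] at hw
      exact hw
    have h1 : T.tC ^ (i : ℕ) = 1 := by
      calc T.tC ^ (i : ℕ) = (T.tC ^ 3) ^ (i : ℕ) * ((T.tC ^ (i : ℕ)) ^ 2)⁻¹ := by
            rw [← pow_mul, ← pow_mul, show 3 * (i : ℕ) = (i : ℕ) + (i : ℕ) * 2 by omega, pow_add,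
              mul_inv_cancel_right]
        _ = 1 := by rw [h2, ht, one_pow, inv_one, one_mul]
    rw [h1, mul_one]
  refine (Nat.card_eq_of_bijective (fun v : T.RC => (⟨T.φ v.1, T.φ_comm_z _, by rw [← map_mul, v.2.1, map_one],
    fun e => v.2.2.1 (hinj _ _ v.2.1 (one_mul 1) (e.trans (map_one _).symm)),
    fun e => v.2.2.2 (hinj _ _ v.2.1 (Subtype.ext D.z_sq) e)⟩ :
      {a : T.K ⧸ T.P // Commute a T.zH ∧ a * a = 1 ∧ a ≠ 1 ∧ a ≠ T.zH})) ⟨?_, ?_⟩).symm
  · intro v w e
    exact Subtype.ext (hinj _ _ v.2.1 w.2.1 (congrArg Subtype.val e))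
  · rintro ⟨a, ha, ha2, ha1, haz⟩
    obtain ⟨v, rfl⟩ := T.lift_N ha
    obtain ⟨w, hw, hw2⟩ := T.invol_lift ha2
    refine ⟨⟨w, hw2, fun e => ha1 (by rw [← hw, e, map_one]), fun e => haz (by rw [← hw, e]; rfl)⟩,
      Subtype.ext hw⟩

/-- The fixed involution in the centraliser. -/
theorem exists_quad : ∃ v r : T.C, D.p (v : D.X) = quad ∧ v * v = 1 ∧ v ≠ 1 ∧ v ≠ T.zC ∧
    r * v * r⁻¹ = T.zC * v := by
  obtain ⟨hq2, hqt, -, -⟩ := quad_facts
  obtain ⟨c, hc⟩ := exists_code (σ := quad) (Equiv.ext fun i => by rw [Perm.mul_apply, Perm.mul_apply]; exact hqt i)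
  have he : Even' c := (sign_perm c).1 (by rw [hc]; decide +kernel)
  have hQ : IsQuad c := by
    refine ⟨he, fun i hi => ?_, ?_⟩
    · have h2 : perm c (perm c (⟨i, hi⟩ : Fin 10)) = ⟨i, hi⟩ := by rw [hc]; exact hq2 _
      simpa only [perm_eq] using congrArg Fin.val h2
    · rw [card_moved (perm c) (permN c) (perm_eq c), hc, quad_support]
  obtain ⟨v, hv, hv2, hv1, hvz⟩ := T.lift_quad hQ
  rw [hc] at hv
  obtain ⟨r, hr⟩ := D.p_surj (show Perm.sign (swap (6 : Fin 10) 7 * swap 8 9) = 1 by decide +kernel)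
  obtain ⟨a, ha⟩ := D.p_surj (show Perm.sign (swap (0 : Fin 10) 3 * swap 1 4) = 1 by decide +kernel)
  obtain ⟨b, hb⟩ := D.p_surj (show Perm.sign (swap (6 : Fin 10) 7 * swap 2 5) = 1 by decide +kernel)
  have hrC : r ∈ T.C := T.mem_C.2 (by rw [hr, commute_iff_eq]; decide +kernel)
  have hra : Commute a r := D.comm_dbl (show [(0 : Fin 10), 3, 1, 4].Nodup by decide) ha (by
    rw [hr]; decide +kernel)
  have hrb : r * b = D.zX * (b * r) :=
    D.anticomm (by norm_num) (show [(6 : Fin 10), 7, 8, 9, 2, 5].Nodup by decide) hr hb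
  have hab : r * (a * b) * r⁻¹ = D.zX * (a * b) := by
    calc r * (a * b) * r⁻¹ = (r * a) * b * r⁻¹ := by group
      _ = a * (r * b) * r⁻¹ := by rw [← hra.eq]; group
      _ = (a * D.zX) * b := by rw [hrb]; group
      _ = _ := by rw [← D.z_comm]; group
  refine ⟨v, ⟨r, hrC⟩, hv, hv2, hv1, hvz, Subtype.ext ?_⟩
  show r * (v : D.X) * r⁻¹ = D.zX * (v : D.X)
  rcases D.eq_or (show D.p (v : D.X) = D.p (a * b) by rw [hv, map_mul, ha, hb]; decide +kernel) with e | e <;> rw [e]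
  · exact hab
  · calc r * (D.zX * (a * b)) * r⁻¹ = (r * D.zX) * (a * b) * r⁻¹ := by group
      _ = D.zX * (r * (a * b) * r⁻¹) := by rw [← D.z_comm]; group
      _ = _ := by rw [hab]

theorem R_conj_aux (w : T.RC) : ∀ v : T.C, D.p (v : D.X) = quad →
    ∀ r : T.C, r * v * r⁻¹ = T.zC * v → ∃ g : T.C, g * v * g⁻¹ = w.1 := by
  intro v hv r hr
  obtain ⟨c, hc, hq⟩ := T.code_quad w.2.1 w.2.2.1 w.2.2.2
  obtain ⟨b, hb, hgb⟩ := quad_conj c hq
  obtain ⟨g, hg⟩ := D.p_surj ((sign_perm b).2 hb)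
  let gC : T.C := ⟨g, T.mem_C.2 (hg ▸ comm_perm b)⟩
  have hrel : perm b * quad = perm c * perm b := Equiv.ext fun i => Fin.ext (by
    simp only [Perm.mul_apply, perm_eq, quad_eq]
    exact hgb i i.2)
  rcases D.eq_or (show D.p ((gC * v * gC⁻¹ : T.C) : D.X) = D.p (w.1 : D.X) by
    simp only [gC, Subgroup.coe_mul, InvMemClass.coe_inv, map_mul, map_inv, hg, hv, hrel, ← hc,
      mul_inv_cancel_right]) with e | e
  · exact ⟨gC, Subtype.ext e⟩
  · refine ⟨gC * r, ?_⟩
    have e' : gC * v * gC⁻¹ = T.zC * w.1 := Subtype.ext e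
    calc gC * r * v * (gC * r)⁻¹ = gC * (r * v * r⁻¹) * gC⁻¹ := by group
      _ = gC * T.zC * gC⁻¹ * (gC * v * gC⁻¹) := by rw [hr]; group
      _ = T.zC * (T.zC * w.1) := by
        rw [e', show gC * T.zC = T.zC * gC from Subtype.ext (D.z_comm _).symm, mul_inv_cancel_right]
      _ = w.1 := by rw [← mul_assoc, show T.zC * T.zC = 1 from Subtype.ext D.z_sq, one_mul]

theorem fused : ∃ h : T.K ⧸ T.P, Commute (h * T.zH * h⁻¹) T.zH ∧ h * T.zH * h⁻¹ ≠ T.zH := by
  classical
  obtain ⟨v, -, hv, hv2, hv1, hvz, -⟩ := T.exists_quad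
  have hvo : orderOf ((v : D.X) : G) = 2 := by
    rw [orderOf_coe, orderOf_coe]
    exact orderOf_eq_prime (by rw [pow_two, hv2]) hv1
  obtain ⟨g, hg⟩ := isConj_iff.1 (D.isConj_invol (by norm_num) (by norm_num) hvo)
  have hz2 : D.z * D.z = 1 := congrArg Subtype.val D.z_sq
  have hvz' : Commute ((v : D.X) : G) D.z := mem_centralizer_singleton_iff.1 (v : D.X).2
  have hbX : g⁻¹ * D.z * g ∈ D.X := by
    refine D.mem_of_commute ?_
    have h := hvz'.symm.map (MulAut.conj g⁻¹).toMonoidHom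
    rw [← hg] at h
    simpa [MulAut.conj_apply, mul_assoc] using h
  have hyX : g⁻¹ * (T.t : G) * g ∈ D.X := by
    refine D.mem_of_commute ?_
    have h1 : Commute (T.t : G) ((v : D.X) : G) :=
      (congrArg Subtype.val (mem_centralizer_singleton_iff.1 v.2) : ((v : D.X) : G) * T.t = T.t * (v : D.X)).symm
    have h := h1.map (MulAut.conj g⁻¹).toMonoidHom
    rw [← hg] at h
    simpa [MulAut.conj_apply, mul_assoc] using h
  set b : D.X := ⟨_, hbX⟩
  set y : D.X := ⟨_, hyX⟩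
  have hb2 : b * b = 1 := Subtype.ext (by
    show g⁻¹ * D.z * g * (g⁻¹ * D.z * g) = 1
    rw [show g⁻¹ * D.z * g * (g⁻¹ * D.z * g) = g⁻¹ * (D.z * D.z) * g by group, hz2]
    group)
  have hb1 : b ≠ 1 := fun e => D.z_ne (Subtype.ext (by
    have e' : g⁻¹ * D.z * g = 1 := congrArg Subtype.val e
    calc D.z = g * (g⁻¹ * D.z * g) * g⁻¹ := by group
      _ = 1 := by rw [e']; group))
  have hbz : b ≠ D.zX := fun e => hvz (Subtype.ext (Subtype.ext (by
    have e' : g⁻¹ * D.z * g = D.z := congrArg Subtype.val e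
    show ((v : D.X) : G) = D.z
    calc ((v : D.X) : G) = g * (g⁻¹ * D.z * g) * g⁻¹ := by rw [e', hg]
      _ = D.z := by group)))
  have hy3 : y ^ 3 = 1 := Subtype.ext (by
    show (g⁻¹ * (T.t : G) * g) ^ 3 = 1
    rw [show g⁻¹ * (T.t : G) * g = g⁻¹ * (T.t : G) * (g⁻¹)⁻¹ by rw [inv_inv], conj_pow, T.t3']
    group)
  have hby : Commute b y := Subtype.ext (by
    have h : Commute D.z (T.t : G) := (mem_centralizer_singleton_iff.1 T.t.2).symm
    have h' := h.map (MulAut.conj g⁻¹).toMonoidHom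
    show g⁻¹ * D.z * g * (g⁻¹ * T.t * g) = g⁻¹ * T.t * g * (g⁻¹ * D.z * g)
    have := h'.eq
    simp only [MulEquiv.coe_toMonoidHom, MulAut.conj_apply, inv_inv] at this
    exact this)
  have hy1 : D.p y ≠ 1 := fun e => by
    rcases D.p_eq_one.1 e with e | e
    · have e' : g⁻¹ * (T.t : G) * g = 1 := congrArg Subtype.val e
      have : T.t = 1 := Subtype.ext (by
        calc (T.t : G) = g * (g⁻¹ * (T.t : G) * g) * g⁻¹ := by group
          _ = 1 := by rw [e']; group)
      have h := T.p_t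
      rw [this, map_one] at h
      revert h
      decide +kernel
    · rw [e, D.z_pow_odd (by decide)] at hy3
      exact D.z_ne hy3
  have h6 := six_of_comm (D.p_invol hb2) (D.invol_eight (by norm_num) (by norm_num) hb2 hb1 hbz)
    (by rw [← map_pow, hy3, map_one]) hy1 (hby.map D.p)
  have hct : (D.p y).cycleType = ct.cycleType := by
    obtain ⟨k, hk⟩ := Perm.cycleType_prime_order (σ := D.p y)
      (by rw [orderOf_eq_prime (by rw [← map_pow, hy3, map_one]) hy1]; norm_num)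
    rw [orderOf_eq_prime (by rw [← map_pow, hy3, map_one]) hy1] at hk
    have hsum := (D.p y).sum_cycleType
    rw [hk, Multiset.sum_replicate, smul_eq_mul, h6] at hsum
    rw [hk, show k = 1 by omega]
    decide +kernel
  obtain ⟨s, hs⟩ := isConj_iff.1 (Perm.isConj_iff_cycleType_eq.2 hct)
  obtain ⟨s', hs', es'⟩ : ∃ s' : Perm (Fin 10), Perm.sign s' = 1 ∧ s' * D.p y * s'⁻¹ = ct := by
    rcases Int.units_eq_one_or (Perm.sign s) with e | e
    · exact ⟨s, e, hs⟩
    · refine ⟨swap 6 7 * s, by rw [map_mul, e, Perm.sign_swap (by decide)]; rfl, ?_⟩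
      rw [show swap 6 7 * s * D.p y * (swap 6 7 * s)⁻¹ = swap 6 7 * (s * D.p y * s⁻¹) * (swap 6 7)⁻¹ by group, hs]
      decide +kernel
  obtain ⟨k, rfl⟩ := D.p_surj hs'
  have hky : k * y * k⁻¹ = T.t := D.lift_uniq (m := 3) (by decide)
    (by rw [conj_pow, hy3, mul_one, mul_inv_cancel]) T.t3 (by rw [map_mul, map_mul, map_inv, es', T.p_t])
  have hkG : (k : G) * (g⁻¹ * (T.t : G) * g) * (k : G)⁻¹ = (T.t : G) := congrArg Subtype.val hky
  have hK : g * (k : G)⁻¹ ∈ T.K := by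
    refine mem_centralizer_singleton_iff.2 ?_
    calc g * (k : G)⁻¹ * (T.t : G) = g * (k : G)⁻¹ * ((k : G) * (g⁻¹ * (T.t : G) * g) * (k : G)⁻¹) := by rw [hkG]
      _ = (T.t : G) * (g * (k : G)⁻¹) := by group
  set h0 : T.K := ⟨_, hK⟩
  have he : QuotientGroup.mk' T.P h0 * T.zH * (QuotientGroup.mk' T.P h0)⁻¹ = T.φ v := by
    show _ * QuotientGroup.mk' T.P (T.incl T.zC) * _ = QuotientGroup.mk' T.P (T.incl v)
    rw [← map_inv, ← map_mul, ← map_mul]
    congr 1
    refine Subtype.ext ?_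
    show g * (k : G)⁻¹ * D.z * (g * (k : G)⁻¹)⁻¹ = ((v : D.X) : G)
    rw [← hg, show g * (k : G)⁻¹ * D.z * (g * (k : G)⁻¹)⁻¹ = g * ((k : G)⁻¹ * (D.z * (k : G))) * g⁻¹ by group,
      ← (mem_centralizer_singleton_iff.1 k.2 : (k : G) * D.z = D.z * k), inv_mul_cancel_left]
  refine ⟨QuotientGroup.mk' T.P h0, by rw [he]; exact T.φ_comm_z v, ?_⟩
  rw [he]
  intro e
  obtain ⟨i, hi⟩ := T.φ_eq.1 e.symm
  have h2 := congrArg (fun w : T.C => D.p (w : D.X)) hi
  simp only [hv, zC, Subgroup.coe_mul, SubmonoidClass.coe_pow, map_mul, map_pow, tC, T.p_t, D.p_z, one_mul] at h2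
  revert h2
  generalize i = j
  revert j
  decide +kernel

theorem three_lift {v : T.C} (h : T.φ v ^ 9 = 1) : D.p (v : D.X) ^ 3 = 1 ∧ v ^ 3 = 1 := by
  obtain ⟨i, hi⟩ := T.φ_eq.1 ((map_one T.φ).trans (by rw [map_pow, h]) : T.φ 1 = T.φ (v ^ 9))
  rw [one_mul] at hi
  have h27 : v ^ 27 = 1 := by
    rw [show 27 = 9 * 3 from rfl, pow_mul, hi, ← pow_mul, mul_comm, pow_mul,
      show T.tC ^ 3 = 1 from Subtype.ext T.t3, one_pow]
  obtain ⟨c, hc, he⟩ := T.code v
  have hp27 : perm c ^ 27 = 1 := by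
    rw [hc, ← map_pow, ← SubmonoidClass.coe_pow, h27, OneMemClass.coe_one, map_one]
  have hp3 : perm c ^ 3 = 1 := Equiv.ext fun i => Fin.ext (by
    rw [perm_pow_eq, Perm.one_apply]
    refine pow_twentyseven c he (fun j hj => ?_) i i.2
    have h := congrArg Fin.val (DFunLike.congr_fun hp27 (⟨j, hj⟩ : Fin 10))
    rwa [perm_pow_eq, Perm.one_apply] at h)
  rw [hc] at hp3
  refine ⟨hp3, ?_⟩
  rcases D.p_eq_one.1 (show D.p ((v : D.X) ^ 3) = 1 by rw [map_pow, hp3]) with e | e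
  · exact Subtype.ext e
  · exfalso
    have h' : (v : D.X) ^ 27 = 1 := congrArg Subtype.val h27
    rw [show 27 = 3 * 9 from rfl, pow_mul, e, D.z_pow_odd (by decide)] at h'
    exact D.z_ne h'

theorem t_pow_cube (k : ℕ) : (T.t ^ k) ^ 3 = 1 := by rw [← pow_mul, mul_comm, pow_mul, T.t3, one_pow]

/-- The centraliser of an element of order three read off the codes. -/
theorem three_card {v : T.C} {c : Code} (hc : perm c = D.p (v : D.X)) (hv3 : (v : D.X) ^ 3 = 1)
    (hcard : (Finset.univ.filter fun c' => Even' c' ∧ CommMod c c').card = 27) :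
    Nat.card ↥(centralizer ({T.zH} : Set (T.K ⧸ T.P)) ⊓ centralizer ({T.φ v} : Set (T.K ⧸ T.P))) = 18 := by
  classical
  have hvt : Commute (v : D.X) T.t := mem_centralizer_singleton_iff.1 v.2
  set S := centralizer ({T.zH} : Set (T.K ⧸ T.P)) ⊓ centralizer ({T.φ v} : Set (T.K ⧸ T.P)) with hS
  have hmemS : ∀ w : T.C, w ∈ S.comap T.φ ↔ Commute (T.φ w) (T.φ v) := fun w =>
    ⟨fun h => mem_centralizer_singleton_iff.1 h.2,
      fun h => ⟨mem_centralizer_singleton_iff.2 (T.φ_comm_z w).eq, mem_centralizer_singleton_iff.2 h.eq⟩⟩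
  have hA : ∀ c', c' ∈ Finset.univ.filter (fun c' => Even' c' ∧ CommMod c c') ↔
      ∃ w ∈ S.comap T.φ, perm c' = D.p ((w : T.C) : D.X) := by
    intro c'
    rw [Finset.mem_filter]
    constructor
    · rintro ⟨-, he', k, hk⟩
      obtain ⟨w, hwp⟩ := D.p_surj ((sign_perm c').2 he')
      refine ⟨⟨w, T.mem_C.2 (hwp ▸ comm_perm c')⟩, (hmemS _).2 ?_, hwp.symm⟩
      have hperm : perm c' * perm c = perm c * (ct ^ (k : ℕ) * perm c') := Equiv.ext fun j => Fin.ext (by
        rw [Perm.mul_apply, Perm.mul_apply, Perm.mul_apply, perm_eq, perm_eq, perm_eq, ct_eq, perm_eq]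
        exact hk j j.2)
      have e : w * (v : D.X) * w⁻¹ = (v : D.X) * T.t ^ (k : ℕ) := D.lift_uniq (m := 3) (by decide)
        (by rw [conj_pow, hv3, mul_one, mul_inv_cancel])
        (by rw [(hvt.pow_right _).mul_pow, T.t_pow_cube, hv3, one_mul]) (by
          rw [map_mul, map_mul, map_mul, map_inv, map_pow, hwp, ← hc, T.p_t, mul_inv_eq_iff_eq_mul, hperm, mul_assoc])
      have e' : (⟨w, T.mem_C.2 (hwp ▸ comm_perm c')⟩ : T.C) * v * (⟨w, T.mem_C.2 (hwp ▸ comm_perm c')⟩ : T.C)⁻¹ =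
          v * T.tC ^ (k : ℕ) := Subtype.ext e
      show _ = _
      rw [← mul_inv_eq_iff_eq_mul, ← map_inv, ← map_mul, ← map_mul, e', map_mul, map_pow, T.φ_tC, one_pow, mul_one]
    · rintro ⟨w, hwS, hwp⟩
      have hcm := (hmemS w).1 hwS
      obtain ⟨k, hk⟩ := T.φ_eq.1 (show T.φ v = T.φ (w * v * w⁻¹) by
        rw [map_mul, map_mul, map_inv, hcm.eq, mul_inv_cancel_right])
      have hk' : w * v = v * T.tC ^ (k : ℕ) * w := by rw [← hk]; group
      have h3 := congrArg T.pC hk'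
      rw [map_mul, map_mul, map_mul, map_pow] at h3
      change D.p (w : D.X) * D.p (v : D.X) = D.p (v : D.X) * D.p T.t ^ (k : ℕ) * D.p (w : D.X) at h3
      rw [T.p_t, ← hc, ← hwp] at h3
      refine ⟨Finset.mem_univ _, (sign_perm c').1 (hwp ▸ D.sign_p _), k, fun j hj => ?_⟩
      have h4 := congrArg Fin.val (DFunLike.congr_fun h3 (⟨j, hj⟩ : Fin 10))
      rw [Perm.mul_apply, Perm.mul_apply, Perm.mul_apply, perm_eq, perm_eq, perm_eq, ct_eq, perm_eq] at h4
      exact h4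
  have h2 := T.card_with_image (S.comap T.φ) ((hmemS _).2 (T.φ_comm_z v).symm) _ hA
  rw [T.card_comap S inf_le_left, hcard] at h2
  omega

/-- An inverting involution read off the codes. -/
theorem three_inv {v : T.C} {c q : Code} (hc : perm c = D.p (v : D.X)) (hv3 : (v : D.X) ^ 3 = 1) (hq : IsQuad q)
    (hq1 : q.1.1 = 1) {i : Fin 3}
    (hqi : ∀ j < 10, permN q (permN c j) = permN c (permN c (ctN i (permN q j)))) :
    ∃ σ, Commute σ T.zH ∧ σ * σ = 1 ∧ σ * T.uH * σ⁻¹ = T.uH⁻¹ ∧ σ * T.φ v * σ⁻¹ = (T.φ v)⁻¹ := by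
  have hvt : Commute (v : D.X) T.t := mem_centralizer_singleton_iff.1 v.2
  obtain ⟨s, hs, hs2, -, -⟩ := T.lift_quad hq
  refine ⟨T.φ s, T.φ_comm_z s, by rw [← map_mul, hs2, map_one], ((T.commU hs.symm).2 hq1).1, ?_⟩
  have hperm : perm q * perm c = perm c * (perm c * (ct ^ (i : ℕ) * perm q)) := Equiv.ext fun j => Fin.ext (by
    rw [Perm.mul_apply, Perm.mul_apply, Perm.mul_apply, Perm.mul_apply, perm_eq, perm_eq, perm_eq, perm_eq, ct_eq,
      perm_eq]
    exact hqi j j.2)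
  have e : (s : D.X) * v * (s : D.X)⁻¹ = (v : D.X) * v * T.t ^ (i : ℕ) := D.lift_uniq (m := 3) (by decide)
    (by rw [conj_pow, hv3, mul_one, mul_inv_cancel])
    (by rw [((hvt.mul_left hvt).pow_right _).mul_pow, T.t_pow_cube, (Commute.refl _).mul_pow, hv3, one_mul, one_mul]) (by
      rw [map_mul, map_mul, map_mul, map_mul, map_inv, map_pow, hs, ← hc, T.p_t, mul_inv_eq_iff_eq_mul, hperm,
        mul_assoc, mul_assoc])
  have e' : s * v * s⁻¹ = v * v * T.tC ^ (i : ℕ) := Subtype.ext e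
  rw [← map_inv, ← map_mul, ← map_mul, e', map_mul, map_pow, T.φ_tC, one_pow, mul_one, map_mul]
  refine eq_inv_of_mul_eq_one_left ?_
  have h3 : T.φ v ^ 3 = 1 := by rw [← map_pow, show v ^ 3 = 1 from Subtype.ext hv3, map_one]
  rw [mul_assoc, ← pow_three, h3]

/-- A three-cycle up to the lift is strongly embedded. -/
theorem three_strong {w : T.C} (hwc : (D.p (w : D.X)).IsThreeCycle) (hw3 : (w : D.X) ^ 3 = 1) :
    ∀ h, Commute (h * T.φ w * h⁻¹) T.zH → Commute h T.zH := by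
  intro h hh
  obtain ⟨k, rfl⟩ := QuotientGroup.mk'_surjective T.P h
  have hmem := T.mem_X (k := k * T.incl w * k⁻¹) (by
    rw [map_mul, map_mul, map_inv]
    exact hh)
  have hkX : (k : G) ∈ D.X := D.strong_cycle (w : D.X) hwc hw3 hmem
  have hkC : (⟨(k : G), hkX⟩ : D.X) ∈ T.C :=
    mem_centralizer_singleton_iff.2 (Subtype.ext (mem_centralizer_singleton_iff.1 k.2 : (k : G) * T.t = T.t * k))
  exact T.φ_comm_z ⟨_, hkC⟩

theorem three (b : T.K ⧸ T.P) (hbz : Commute b T.zH) (hbu : Commute b T.uH) (hb3 : b ^ 3 = 1) (hb1 : b ≠ 1) :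
    (∀ h, Commute (h * b * h⁻¹) T.zH → Commute h T.zH) ∨
    (Nat.card ↥(centralizer ({T.zH} : Set (T.K ⧸ T.P)) ⊓ centralizer ({b} : Set (T.K ⧸ T.P))) = 18 ∧
      ∃ σ, Commute σ T.zH ∧ σ * σ = 1 ∧ σ * T.uH * σ⁻¹ = T.uH⁻¹ ∧ σ * b * σ⁻¹ = b⁻¹) := by
  obtain ⟨v, rfl⟩ := T.lift_N hbz
  obtain ⟨hp3, hv3⟩ := T.three_lift (v := v) (by rw [show 9 = 3 * 3 from rfl, pow_mul, hb3, one_pow])
  obtain ⟨c, hc, he⟩ := T.code v
  have hN3 : ∀ i < 10, permN c (permN c (permN c i)) = i := fun i hi => by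
    have h := congrArg Fin.val (DFunLike.congr_fun (hc ▸ hp3) (⟨i, hi⟩ : Fin 10))
    rw [perm_pow_eq, Perm.one_apply, Function.iterate_succ_apply, Function.iterate_succ_apply,
      Function.iterate_one] at h
    exact h
  have hvt : Commute (v : D.X) T.t := mem_centralizer_singleton_iff.1 v.2
  have hv3' : (v : D.X) ^ 3 = 1 := congrArg Subtype.val hv3
  rcases three_cases c he (T.w_of_comm hc hbu) hN3 with ⟨i, hi⟩ | ⟨i, hi⟩ | ⟨hcard, q, hq, hq1, i, hqi⟩
  · exfalso
    refine hb1 ?_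
    have hperm : perm c = ct ^ (i : ℕ) := Equiv.ext fun j => Fin.ext (by rw [perm_eq, ct_eq]; exact hi j j.2)
    have e0 : (v : D.X) = T.t ^ (i : ℕ) := D.lift_uniq (m := 3) (by decide) hv3' (T.t_pow_cube i) (by
      rw [map_pow, T.p_t, ← hc, hperm])
    have e : v = T.tC ^ (i : ℕ) := Subtype.ext e0
    rw [e, map_pow, T.φ_tC, one_pow]
  · left
    have hwv : T.φ (T.tC ^ (i : ℕ) * v) = T.φ v := by rw [map_mul, map_pow, T.φ_tC, one_pow, one_mul]
    rw [← hwv]
    refine T.three_strong ?_ ?_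
    · show (D.p (T.t ^ (i : ℕ) * (v : D.X))).IsThreeCycle
      refine card_support_eq_three_iff.1 ?_
      rw [← card_moved _ (fun j => ctN i (permN c j)) (fun j => ?_), hi]
      rw [map_mul, map_pow, T.p_t, ← hc, Perm.mul_apply, ct_eq, perm_eq]
    · show (T.t ^ (i : ℕ) * (v : D.X)) ^ 3 = 1
      rw [(hvt.symm.pow_left _).mul_pow, T.t_pow_cube, hv3', one_mul]
  · exact Or.inr ⟨T.three_card hc hv3' hcard, T.three_inv hc hv3' hq hq1 hqi⟩

/-- The local data. -/
noncomputable def loc : Loc (T.K ⧸ T.P) where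
  z := T.zH
  u := T.uH
  ψ := T.ψH
  z_ord := by
    refine orderOf_eq_prime ?_ fun e => ?_
    · rw [pow_two, zH, ← map_mul, show T.zC * T.zC = 1 from Subtype.ext D.z_sq, map_one]
    · obtain ⟨i, hi⟩ := T.φ_eq.1 ((map_one T.φ).trans e.symm)
      rw [one_mul] at hi
      have h : T.zC ^ 3 = 1 := by
        rw [hi, ← pow_mul, mul_comm, pow_mul, show T.tC ^ 3 = 1 from Subtype.ext T.t3, one_pow]
      have h' : D.zX ^ 3 = 1 := congrArg Subtype.val h
      rw [D.z_pow_odd (by decide)] at h'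
      exact D.z_ne h'
  card_N := T.card_N
  u_comm := T.uz
  u_cube := T.uH_cube
  card_K := T.card_K
  ψ_mul := by
    intro a b haz hau hbz hbu
    obtain ⟨v, rfl⟩ := T.lift_N haz
    obtain ⟨w, rfl⟩ := T.lift_N hbz
    exact T.ψ_mul hau hbu
  ψ_u := by
    rw [uH, T.ψH_φ, T.px]
    exact chi_facts.1
  ψ_anti := by
    intro g a hg hgu haz hau
    obtain ⟨v, rfl⟩ := T.lift_N hg
    obtain ⟨w, rfl⟩ := T.lift_N haz
    exact T.ψ_anti hgu hau
  anti_u := by
    intro g hg hgu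
    obtain ⟨v, rfl⟩ := T.lift_N hg
    obtain ⟨c, hc, -⟩ := T.code v
    exact ((T.commU hc).2 (T.w_of_not_comm hc hgu)).1
  strong := by
    intro h hh
    obtain ⟨k, rfl⟩ := QuotientGroup.mk'_surjective T.P h
    have hmem := T.mem_X (k := k * T.incl ⟨T.x, T.mem_C.2 (by rw [T.px, commute_iff_eq]; decide +kernel)⟩ * k⁻¹)
      (by rw [map_mul, map_mul, map_inv]; exact hh)
    have hcyc : (D.p T.x).IsThreeCycle := by
      rw [T.px, show ca = swap 1 0 * swap 1 2 by rw [ca, swap_comm]]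
      exact Perm.isThreeCycle_swap_mul_swap_same (by decide) (by decide) (by decide)
    have hkX : (k : G) ∈ D.X := D.strong_cycle T.x hcyc T.x3 hmem
    have hkC : (⟨(k : G), hkX⟩ : D.X) ∈ T.C :=
      mem_centralizer_singleton_iff.2 (Subtype.ext (mem_centralizer_singleton_iff.1 k.2 : (k : G) * T.t = T.t * k))
    exact T.φ_comm_z ⟨_, hkC⟩
  invol_K := by
    intro a haz hau ha2
    obtain ⟨v, rfl⟩ := T.lift_N haz
    obtain ⟨w, hw, hw2⟩ := T.invol_lift ha2
    rw [← hw] at hau ⊢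
    obtain ⟨c, hc, -⟩ := T.code w
    exact T.fin_zero_or_z hw2 ((T.conj_x hc).1 (T.w_of_comm hc hau))
  R_conj := by
    intro a b haz ha2 ha1 haz' hbz hb2 hb1 hbz'
    obtain ⟨v, rfl⟩ := T.lift_N haz
    obtain ⟨w, rfl⟩ := T.lift_N hbz
    obtain ⟨v', hv, hv2⟩ := T.invol_lift ha2
    obtain ⟨w', hw, hw2⟩ := T.invol_lift hb2
    obtain ⟨q, r, hq, -, -, -, hr⟩ := T.exists_quad
    obtain ⟨g₁, hg₁⟩ := T.R_conj_aux ⟨v', hv2, fun e => ha1 (by rw [← hv, e, map_one]),
      fun e => haz' (by rw [← hv, e]; rfl)⟩ q hq r hr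
    obtain ⟨g₂, hg₂⟩ := T.R_conj_aux ⟨w', hw2, fun e => hb1 (by rw [← hw, e, map_one]),
      fun e => hbz' (by rw [← hw, e]; rfl)⟩ q hq r hr
    refine ⟨T.φ (g₂ * g₁⁻¹), T.φ_comm_z _, ?_⟩
    have e : g₂ * g₁⁻¹ * v' * (g₂ * g₁⁻¹)⁻¹ = w' := by
      rw [← show g₂ * q * g₂⁻¹ = w' from hg₂, ← show g₁ * q * g₁⁻¹ = v' from hg₁]
      group
    rw [← hv, ← map_inv, ← map_mul, ← map_mul, e, hw]
  R_card := T.card_R
  fused := T.fused
  three := T.three
  exp3 := by
    intro a haz ha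
    obtain ⟨v, rfl⟩ := T.lift_N haz
    rw [← map_pow, (T.three_lift ha).2, map_one]

end TenLift

namespace Ctx

variable {G : Type u} [Group G] [Finite G] [IsSimpleGroup G]

/-- **The degree is not ten.** -/
theorem no_ten (D : Ctx G 10) : False := by
  obtain ⟨T⟩ := D.exists_tenLift
  haveI : Fintype (T.K ⧸ T.P) := Fintype.ofFinite _
  exact Loc.false_of_loc T.loc

end Ctx

end Cfsg.Agent.DoubleCoverDeg
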